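import Groth.Agent.Lib.PP12.Basic
import Groth.Agent.Lib.PushFin12.Basic
import Groth.Agent.Lib.ModM1.Pull
import Mathlib.RingTheory.FinitePresentation
import Mathlib.RingTheory.RingHom.FinitePresentation

/-!
# Quasi-coherence and finiteness of principal parts
-/

set_option autoImplicit false
set_option backward.isDefEq.respectTransparency false
set_option backward.isDefEq.respectTransparency.types false
set_option linter.style.haveILetI false

universe u

open CategoryTheory CategoryTheory.Limits AlgebraicGeometry TopologicalSpace Opposite TensorProduct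

namespace Groth.Agent.PP12

variable {X S : Scheme.{u}} (f : X ⟶ S) (n : ℕ)

instance universallyClosed_pr1 : UniversallyClosed (PrinPart.pr1 f n) := by
  haveI : Surjective (PrinPart.toNbhd f n) := ⟨fun z => ⟨_, pr1_toNbhd_apply f n z⟩⟩
  haveI : UniversallyClosed (PrinPart.toNbhd f n ≫ PrinPart.pr1 f n) := by
    rw [PrinPart.toNbhd_pr1]; infer_instance
  exact UniversallyClosed.of_comp_surjective (PrinPart.toNbhd f n) (PrinPart.pr1 f n)

theorem locallyOfFiniteType_pr1 [LocallyOfFiniteType f] : LocallyOfFiniteType (PrinPart.pr1 f n) := by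
  haveI : IsClosedImmersion (PrinPart.infNbhdι (PrinPart.diagCl f) n) := by
    unfold PrinPart.infNbhdι; infer_instance
  haveI : LocallyOfFiniteType (pullback.fst f f) := MorphismProperty.pullback_fst _ _ inferInstance
  unfold PrinPart.pr1 PrinPart.nbhdι
  infer_instance

theorem isFinite_pr1 [LocallyOfFiniteType f] : IsFinite (PrinPart.pr1 f n) := by
  haveI := locallyOfFiniteType_pr1 f n
  exact (IsFinite.iff_isIntegralHom_and_locallyOfFiniteType _).2
    ⟨IsIntegralHom.iff_universallyClosed_and_isAffineHom.2 ⟨inferInstance, inferInstance⟩, inferInstance⟩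

theorem locallyOfFinitePresentation_pr1 [LocallyOfFinitePresentation f] :
    LocallyOfFinitePresentation (PrinPart.pr1 f n) := by
  refine (HasRingHomProperty.iff_exists_appLE (P := @LocallyOfFinitePresentation)
    (RingHom.finitePresentation_stableUnderComposition.stableUnderCompositionWithLocalizationAway
      RingHom.finitePresentation_holdsForLocalizationAway).1).2 fun z => ?_
  obtain ⟨V, hV, hzV, -⟩ :=
    exists_isAffineOpen_mem_and_subset (X := S) (x := f (PrinPart.pr1 f n z)) (U := ⊤) trivial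
  obtain ⟨U, hU, hzU, hUV⟩ :=
    exists_isAffineOpen_mem_and_subset (X := X) (x := PrinPart.pr1 f n z) (U := f ⁻¹ᵁ V) hzV
  refine ⟨⟨U, hU⟩, ⟨_, isAffineOpen_preimage f n hU⟩, hzU, le_rfl, ?_⟩
  letI := (f.appLE V U hUV).hom.toAlgebra
  obtain ⟨hs, hk⟩ := nbhdHom_chart f n hUV hU hV
  haveI : Algebra.FinitePresentation Γ(S, V) Γ(X, U) := f.finitePresentation_appLE hV hU hUV
  have e : ((PrinPart.pr1 f n).appLE U (PrinPart.pr1 f n ⁻¹ᵁ U) le_rfl).hom =
      (nbhdHom f n hUV).comp (algebraMap Γ(X, U) (Γ(X, U) ⊗[Γ(S, V)] Γ(X, U))) := by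
    refine RingHom.ext fun a => ?_
    rw [RingHom.comp_apply, Algebra.TensorProduct.algebraMap_apply, nbhdHom_tmul, map_one, map_one, mul_one,
      Scheme.Hom.app_eq_appLE]
    rfl
  show RingHom.FinitePresentation _
  rw [e]
  refine (RingHom.FinitePresentation.of_surjective _ hs ?_).comp
    (RingHom.finitePresentation_algebraMap.2 inferInstance)
  rw [hk]
  exact Ideal.FG.pow (KaehlerDifferential.ideal_fg Γ(S, V) Γ(X, U))

theorem isQCoh_PMod (F : X.Modules) (hF : Coh.IsQCoh F) : Coh.IsQCoh (PrinPart.PMod f n F) :=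
  PushFin12.isQCoh_pushforward _ _ (M1.isQCoh_pullback _ hF)

theorem isFP_PMod [LocallyOfFinitePresentation f] (F : X.Modules) (hF : CohB1.IsFP F) :
    CohB1.IsFP (PrinPart.PMod f n F) := by
  haveI := isFinite_pr1 f n
  haveI := locallyOfFinitePresentation_pr1 f n
  exact (PushFin12.isFP_iff _ _ (M1.isQCoh_pullback _ (M1.isFP_isQCoh hF))).1 (M1.isFP_pullback _ hF)

theorem isCoh_PMod [LocallyOfFiniteType f] (F : X.Modules) (hF : Coh.IsCoh F) :
    Coh.IsCoh (PrinPart.PMod f n F) := by
  haveI := isFinite_pr1 f n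
  exact ⟨isQCoh_PMod f n F hF.1,
    (PushFin12.isFT_iff _ _ (M1.isQCoh_pullback _ hF.1)).1 (M1.isFT_pullback _ hF.2)⟩

end Groth.Agent.PP12
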