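import Groth.Agent.Lib.PP12.Lift
import Groth.Agent.Lib.PP12.PMod
import Groth.Agent.Lib.Omega12.AffineDer
import Groth.Agent.Lib.PullBC11.Conv
import Groth.Prelude.Def_DiffOp

/-!
# Differential operators between modules on affine schemes, from operators on global sections
-/

set_option autoImplicit false
set_option backward.isDefEq.respectTransparency false
set_option backward.isDefEq.respectTransparency.types false
set_option linter.style.haveILetI false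

universe u

open CategoryTheory CategoryTheory.Limits AlgebraicGeometry TopologicalSpace Opposite TensorProduct

namespace Groth.Agent.PP12

variable {X S : Scheme.{u}} (f : X ⟶ S) (n : ℕ) {F G : X.Modules}

theorem exists_lambda [IsAffine X] [IsAffine S] (E : Γ(F, ⊤) →+ Γ(G, ⊤))
    (hlin : ∀ (s : Γ(S, ⊤)) (t : Γ(F, ⊤)), E (f.appTop s • t) = f.appTop s • E t)
    (hord : Ord (B := Γ(X, ⊤)) n E) :
    ∃ Λ : Γ(PrinPart.nbhd f n, PrinPart.pr1 f n ⁻¹ᵁ ⊤) →+ (Γ(F, ⊤) →+ Γ(G, ⊤)),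
      Λ 1 = E ∧
      (∀ r c t, Λ ((PrinPart.pr2 f n).appLE ⊤ _ (le_pr2 f n ⊤) r * c) t = Λ c (r • t)) ∧
      ∀ r c t, Λ ((PrinPart.pr1 f n).app ⊤ r * c) t = r • Λ c t := by
  have hUV : (⊤ : X.Opens) ≤ f ⁻¹ᵁ ⊤ := fun _ _ => trivial
  letI := (f.appLE ⊤ ⊤ hUV).hom.toAlgebra
  have hb : BaseLin (B := Γ(X, ⊤)) Γ(S, ⊤) E := fun s t => by
    show E (f.appLE ⊤ ⊤ hUV s • t) = f.appLE ⊤ ⊤ hUV s • E t
    rw [show f.appLE ⊤ ⊤ hUV = f.appTop from (Scheme.Hom.app_eq_appLE f).symm]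
    exact hlin s t
  obtain ⟨hsurj, hker⟩ := nbhdHom_chart f n hUV (isAffineOpen_top X) (isAffineOpen_top S)
  have hwd : ∀ w, nbhdHom f n hUV w = 0 → linAdd hb w = 0 := fun w hw => (ord_iff hb n).1 hord w (hker.le hw)
  let Λ := AddMonoidHom.liftOfSurjective (nbhdHom f n hUV).toAddMonoidHom hsurj ⟨linAdd hb, fun w hw => hwd w hw⟩
  have hΛ : ∀ w, Λ (nbhdHom f n hUV w) = linAdd hb w := fun w =>
    AddMonoidHom.liftOfRightInverse_comp_apply (nbhdHom f n hUV).toAddMonoidHom _ _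
      ⟨linAdd hb, fun w hw => hwd w hw⟩ w
  refine ⟨Λ, ?_, fun r c t => ?_, fun r c t => ?_⟩
  · rw [← map_one (nbhdHom f n hUV), hΛ, linAdd_one]
  · obtain ⟨w, rfl⟩ := hsurj c
    have h2 : (PrinPart.pr2 f n).appLE ⊤ _ (le_pr2 f n ⊤) r = nbhdHom f n hUV (1 ⊗ₜ r) := by
      rw [nbhdHom_tmul, map_one, one_mul]; rfl
    rw [h2, mul_comm, ← map_mul, hΛ, hΛ, linAdd_mul_tmul, one_smul]
  · obtain ⟨w, rfl⟩ := hsurj c
    have h1 : (PrinPart.pr1 f n).app ⊤ r = nbhdHom f n hUV (r ⊗ₜ 1) := by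
      rw [nbhdHom_tmul, map_one, map_one, mul_one]
    rw [h1, mul_comm, ← map_mul, hΛ, hΛ, linAdd_mul_tmul, one_smul]

/-- The unit of pullback and direct image at `F`. -/
noncomputable def unitTo {Y X : Scheme.{u}} (g : Y ⟶ X) (F : X.Modules) :
    F ⟶ (Scheme.Modules.pushforward g).obj ((Scheme.Modules.pullback g).obj F) :=
  (Scheme.Modules.pullbackPushforwardAdjunction g).unit.app F

theorem isBC_unit {Y X : Scheme.{u}} (g : Y ⟶ X) {F : X.Modules} (hF : Coh.IsQCoh F) {U : X.Opens}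
    (hU : IsAffineOpen U) {V : Y.Opens} (hV : IsAffineOpen V) (hle : V ≤ g ⁻¹ᵁ U) :
    PullBC11.IsBC (unitTo g F) hle := by
  have e : ((Scheme.Modules.pullbackPushforwardAdjunction g).homEquiv F ((Scheme.Modules.pullback g).obj F)).symm
      (unitTo g F) = 𝟙 _ :=
    (Equiv.symm_apply_eq _).2 (Adjunction.homEquiv_id (Scheme.Modules.pullbackPushforwardAdjunction g) F).symm
  haveI : IsIso (((Scheme.Modules.pullbackPushforwardAdjunction g).homEquiv F ((Scheme.Modules.pullback g).obj F)).symm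
      (unitTo g F)) := by rw [e]; infer_instance
  exact PullBC11.isBC_of_isIso (unitTo g F) hF (M1.isQCoh_pullback g hF) hU hV hle

theorem exists_top_lin [IsAffine X]
    (hF : Coh.IsQCoh F) (Λ : Γ(PrinPart.nbhd f n, PrinPart.pr1 f n ⁻¹ᵁ ⊤) →+ (Γ(F, ⊤) →+ Γ(G, ⊤)))
    (h2 : ∀ r c t, Λ ((PrinPart.pr2 f n).appLE ⊤ _ (le_pr2 f n ⊤) r * c) t = Λ c (r • t))
    (h1 : ∀ r c t, Λ ((PrinPart.pr1 f n).app ⊤ r * c) t = r • Λ c t) :
    ∃ l : Γ(PrinPart.PMod f n F, ⊤) →+ Γ(G, ⊤), (∀ (r : Γ(X, ⊤)) s, l (r • s) = r • l s) ∧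
      ∀ t, l (PrinPart.dP f n F ⊤ t) = Λ 1 t := by
  have hBC := isBC_unit (PrinPart.pr2 f n) hF (isAffineOpen_top X)
    (isAffineOpen_preimage f n (isAffineOpen_top X)) (le_pr2 f n ⊤)
  let N := (Scheme.Modules.pullback (PrinPart.pr2 f n)).obj F
  let W := PrinPart.pr1 f n ⁻¹ᵁ (⊤ : X.Opens)
  letI := ((PrinPart.pr2 f n).appLE ⊤ W (le_pr2 f n ⊤)).hom.toAlgebra
  letI := PullBC11.baseModule (g := PrinPart.pr2 f n) N (le_pr2 f n ⊤)
  haveI : IsScalarTower Γ(X, ⊤) Γ(PrinPart.nbhd f n, W) Γ(N, W) := IsScalarTower.of_algebraMap_smul fun _ _ => rfl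
  let e := IsBaseChange.equiv hBC
  let L : Γ(PrinPart.nbhd f n, W) ⊗[Γ(X, ⊤)] Γ(F, ⊤) →+ Γ(G, ⊤) :=
    TensorProduct.liftAddHom Λ fun r c t => h2 r c t
  have hL : ∀ (r : Γ(X, ⊤)) (x : Γ(PrinPart.nbhd f n, W) ⊗[Γ(X, ⊤)] Γ(F, ⊤)),
      L ((PrinPart.pr1 f n).app ⊤ r • x) = r • L x := by
    intro r x
    induction x using TensorProduct.induction_on with
    | zero => rw [smul_zero, map_zero, smul_zero]
    | add a b ha hb => rw [smul_add, map_add, ha, hb, map_add, smul_add]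
    | tmul c t =>
      rw [TensorProduct.smul_tmul', smul_eq_mul]
      exact h1 r c t
  refine ⟨L.comp (show Γ(PrinPart.PMod f n F, ⊤) →+ Γ(PrinPart.nbhd f n, W) ⊗[Γ(X, ⊤)] Γ(F, ⊤) from
    e.symm.toLinearMap.toAddMonoidHom), fun r s => ?_, fun t => ?_⟩
  · show L (e.symm ((PrinPart.pr1 f n).app ⊤ r • (show Γ(N, W) from s))) = r • L (e.symm (show Γ(N, W) from s))
    rw [map_smul, hL]
  · show L (e.symm (PullBC11.sect (unitTo (PrinPart.pr2 f n) F)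
      (le_pr2 f n ⊤) t)) = Λ 1 t
    rw [IsBaseChange.equiv_symm_apply]
    rfl

theorem exists_isDiffOpLE_of_ord [IsAffine X] [IsAffine S]
    (hF : Coh.IsQCoh F) (E : Γ(F, ⊤) →+ Γ(G, ⊤))
    (hlin : ∀ (s : Γ(S, ⊤)) (t : Γ(F, ⊤)), E (f.appTop s • t) = f.appTop s • E t)
    (hord : Ord (B := Γ(X, ⊤)) n E) :
    ∃ D : F.presheaf ⟶ G.presheaf, PrinPart.IsDiffOpLE f F G n D ∧ ∀ m, (D.app (op ⊤)).hom m = E m := by
  obtain ⟨Λ, h0, h2, h1⟩ := exists_lambda f n E hlin hord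
  obtain ⟨l, hl, hld⟩ := exists_top_lin f n hF Λ h2 h1
  obtain ⟨φ, hφ, -⟩ := Omega12.exists_hom_of_top (isQCoh_PMod f n F hF) l hl
  refine ⟨PrinPart.dPHom f n F ≫ φ.mapPresheaf, ⟨φ, fun _ _ => rfl⟩, fun m => ?_⟩
  show φ.app ⊤ (PrinPart.dP f n F ⊤ m) = E m
  rw [hφ, hld, h0]

theorem ord_of_isDiffOpLE (A B M N : Type u) [CommRing A] [CommRing B] [Algebra A B]
    [AddCommGroup M] [Module A M] [Module B M] [IsScalarTower A B M]
    [AddCommGroup N] [Module A N] [Module B N] [IsScalarTower A B N] :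
    ∀ (k : ℕ) (D : M →ₗ[A] N), Diff16.IsDiffOpLE A B M N k D → Ord (B := B) k D.toAddMonoidHom
  | 0, _, h => fun a => AddMonoidHom.ext fun t => sub_eq_zero.2 (h a t)
  | k + 1, _, h => fun a => ord_of_isDiffOpLE A B M N k _ (h a)

end Groth.Agent.PP12
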