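import Groth.Agent.Lib.PP12.Gen

/-!
# Principal parts of order zero
-/

set_option autoImplicit false
set_option backward.isDefEq.respectTransparency false
set_option backward.isDefEq.respectTransparency.types false
set_option linter.style.haveILetI false

universe u

open CategoryTheory CategoryTheory.Limits AlgebraicGeometry TopologicalSpace Opposite

namespace Groth.Agent.PP12

/-- Pulling back sections along an isomorphism is bijective. -/
theorem bijective_pullSect_of_isIso {X Y : Scheme.{u}} (q : Y ⟶ X) [IsIso q] (M : X.Modules) (U : X.Opens) :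
    Function.Bijective (OmegaSh.pullSect q M U) := by
  have h1 := Adjunction.unit_leftAdjointUniq_hom_app (Scheme.Modules.restrictAdjunction q)
    (Scheme.Modules.pullbackPushforwardAdjunction q) M
  have h2 : Function.Bijective (((Scheme.Modules.restrictAdjunction q).unit.app M).app U) := by
    rw [Scheme.Modules.restrictAdjunction_unit_app_app]
    haveI : IsIso (homOfLE (q.image_preimage_le U)) :=
      ⟨homOfLE (by
        intro x hx
        exact ⟨inv q x, by show q (inv q x) ∈ U; rwa [← Scheme.Hom.comp_apply, IsIso.inv_hom_id],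
          (Scheme.Hom.comp_apply (inv q) q x).symm.trans (by rw [IsIso.inv_hom_id]; rfl)⟩), Subsingleton.elim _ _, Subsingleton.elim _ _⟩
    exact ConcreteCategory.bijective_of_isIso _
  have h3 : Function.Bijective
      (((Scheme.Modules.pushforward q).map
        ((Adjunction.leftAdjointUniq (Scheme.Modules.restrictAdjunction q)
          (Scheme.Modules.pullbackPushforwardAdjunction q)).hom.app M)).app U) := by
    haveI := Scheme.Modules.Hom.isIso_iff_isIso_app.1 (inferInstance : IsIso
      ((Scheme.Modules.pushforward q).map ((Adjunction.leftAdjointUniq (Scheme.Modules.restrictAdjunction q)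
        (Scheme.Modules.pullbackPushforwardAdjunction q)).hom.app M))) U
    exact ConcreteCategory.bijective_of_isIso _
  show Function.Bijective (((Scheme.Modules.pullbackPushforwardAdjunction q).unit.app M).app U)
  rw [← h1]
  exact h3.comp h2

variable {X S : Scheme.{u}} (f : X ⟶ S)

instance isIso_toNbhd_zero : IsIso (PrinPart.toNbhd f 0) := by
  show IsIso ((PrinPart.diagCl f).toImage ≫
    Scheme.IdealSheafData.inclusion (PrinPart.ker_pow_succ_le (PrinPart.diagCl f) 0))
  haveI : IsIso (Scheme.IdealSheafData.inclusion (PrinPart.ker_pow_succ_le (PrinPart.diagCl f) 0)) := by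
    refine ⟨Scheme.IdealSheafData.inclusion (pow_one (PrinPart.diagCl f).ker).ge, ?_, ?_⟩ <;>
    rw [Scheme.IdealSheafData.inclusion_comp, Scheme.IdealSheafData.inclusion_id]
  infer_instance

theorem pr1_zero : PrinPart.pr1 f 0 = inv (PrinPart.toNbhd f 0) := by
  rw [← cancel_epi (PrinPart.toNbhd f 0), PrinPart.toNbhd_pr1, IsIso.hom_inv_id]

theorem pr2_zero : PrinPart.pr2 f 0 = PrinPart.pr1 f 0 := by
  rw [pr1_zero, ← cancel_epi (PrinPart.toNbhd f 0), PrinPart.toNbhd_pr2, IsIso.hom_inv_id]

theorem dP_zero_bijective (F : X.Modules) (U : X.Opens) : Function.Bijective (PrinPart.dP f 0 F U) := by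
  haveI : IsIso (PrinPart.pr2 f 0) := by rw [pr2_zero, pr1_zero]; infer_instance
  have h2 : Function.Bijective (((Scheme.Modules.pullback (PrinPart.pr2 f 0)).obj F).presheaf.map
      (homOfLE (PrinPart.preimage_pr1 f 0 U).le).op) := by
    haveI : IsIso (homOfLE (PrinPart.preimage_pr1 f 0 U).le) :=
      ⟨homOfLE (PrinPart.preimage_pr1 f 0 U).ge, Subsingleton.elim _ _, Subsingleton.elim _ _⟩
    exact ConcreteCategory.bijective_of_isIso _
  exact h2.comp (bijective_pullSect_of_isIso (PrinPart.pr2 f 0) F U)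

theorem dP_zero_smul (F : X.Modules) (U : X.Opens) (a : Γ(X, U)) (t : Γ(F, U)) :
    PrinPart.dP f 0 F U (a • t) = a • PrinPart.dP f 0 F U t := by
  refine (dP_smul f 0 F a t).trans ?_
  refine Eq.trans ?_ (smul_PMod f 0 F a _).symm
  congr 1
  have key : ∀ (q : PrinPart.nbhd f 0 ⟶ X) (_ : q = PrinPart.pr1 f 0) (h : PrinPart.pr1 f 0 ⁻¹ᵁ U ≤ q ⁻¹ᵁ U),
      (PrinPart.nbhd f 0).presheaf.map (homOfLE h).op (q.app U a) = (PrinPart.pr1 f 0).app U a := by
    intro q hq h; subst hq
    exact ConcreteCategory.congr_hom ((PrinPart.nbhd f 0).presheaf.map_id _) _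
  exact key _ (pr2_zero f) _

theorem isDiffOpLE_zero_iff (F G : X.Modules) (D : F.presheaf ⟶ G.presheaf) :
    PrinPart.IsDiffOpLE f F G 0 D ↔
      ∀ (U : X.Opens) (a : Γ(X, U)) (t : Γ(F, U)), D.app (op U) (a • t) = a • D.app (op U) t := by
  constructor
  · rintro ⟨v, hv⟩ U a t
    rw [hv, hv, dP_zero_smul, Scheme.Modules.Hom.app_smul]
  · intro h
    let δ : F ⟶ PrinPart.PMod f 0 F := ⟨PresheafOfModules.homMk (PrinPart.dPHom f 0 F)
      fun U a t => dP_zero_smul f F U.unop a t⟩
    haveI : IsIso δ := Scheme.Modules.Hom.isIso_iff_isIso_app.2 fun U =>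
      (ConcreteCategory.isIso_iff_bijective _).2 (dP_zero_bijective f F U)
    refine ⟨inv δ ≫ ⟨PresheafOfModules.homMk D fun U a t => h U.unop a t⟩, fun U t => ?_⟩
    show D.app (op U) t = D.app (op U) ((inv δ).app U (δ.app U t))
    refine congrArg (D.app (op U)) ?_
    exact (congrArg (fun ψ : F ⟶ F => Scheme.Modules.Hom.app ψ U t) (IsIso.hom_inv_id δ)).symm

end Groth.Agent.PP12
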