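import Groth.Agent.Lib.PP12.Chart
import Mathlib.AlgebraicGeometry.Morphisms.Affine
import Mathlib.AlgebraicGeometry.Morphisms.Finite
import Mathlib.AlgebraicGeometry.Morphisms.Immersion

/-!
# The projections of the infinitesimal neighbourhoods of the diagonal

`pr1`, `pr2` are affine homeomorphisms; finite when `f` is locally of finite type.
-/

set_option autoImplicit false
set_option backward.isDefEq.respectTransparency false
set_option backward.isDefEq.respectTransparency.types false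
set_option linter.style.haveILetI false

universe u

open CategoryTheory CategoryTheory.Limits AlgebraicGeometry TopologicalSpace Opposite TensorProduct

namespace Groth.Agent.PP12

variable {X S : Scheme.{u}} (f : X ⟶ S) (n : ℕ)

theorem toNbhd_pr1_apply (x : X) : PrinPart.pr1 f n (PrinPart.toNbhd f n x) = x := by
  rw [← Scheme.Hom.comp_apply, PrinPart.toNbhd_pr1]; rfl

theorem toNbhd_pr2_apply (x : X) : PrinPart.pr2 f n (PrinPart.toNbhd f n x) = x := by
  rw [← PrinPart.pr1_apply, toNbhd_pr1_apply]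

theorem pr1_toNbhd_apply (z : PrinPart.nbhd f n) : PrinPart.toNbhd f n (PrinPart.pr1 f n z) = z := by
  obtain ⟨y, rfl⟩ := PrinPart.toInfNbhd_surjective (PrinPart.diagCl f) n z
  rw [toNbhd_pr1_apply]

/-- The first projection as a homeomorphism. -/
noncomputable def pr1Homeo : PrinPart.nbhd f n ≃ₜ X where
  toFun := PrinPart.pr1 f n
  invFun := PrinPart.toNbhd f n
  left_inv := pr1_toNbhd_apply f n
  right_inv := toNbhd_pr1_apply f n
  continuous_toFun := (PrinPart.pr1 f n).continuous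
  continuous_invFun := (PrinPart.toNbhd f n).continuous

theorem pr2_eq_pr1 : ⇑(PrinPart.pr2 f n) = ⇑(PrinPart.pr1 f n) :=
  funext fun z => (PrinPart.pr1_apply f n z).symm

instance isAffineHom_pr1 : IsAffineHom (PrinPart.pr1 f n) :=
  isAffineHom_of_isInducing _ (pr1Homeo f n).isInducing
    (by rw [show Set.range (PrinPart.pr1 f n) = Set.univ from (pr1Homeo f n).surjective.range_eq]; exact isClosed_univ)

instance isAffineHom_pr2 : IsAffineHom (PrinPart.pr2 f n) :=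
  isAffineHom_of_isInducing _ (by rw [pr2_eq_pr1]; exact (pr1Homeo f n).isInducing)
    (by rw [pr2_eq_pr1, show Set.range (PrinPart.pr1 f n) = Set.univ from (pr1Homeo f n).surjective.range_eq]
        exact isClosed_univ)

theorem isAffineOpen_preimage {U : X.Opens} (hU : IsAffineOpen U) : IsAffineOpen (PrinPart.pr1 f n ⁻¹ᵁ U) :=
  hU.preimage _

/-- Every open of the neighbourhood comes from `X`. -/
theorem exists_eq_preimage (W : (PrinPart.nbhd f n).Opens) : PrinPart.pr1 f n ⁻¹ᵁ (PrinPart.toNbhd f n ⁻¹ᵁ W) = W := by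
  ext z
  show PrinPart.toNbhd f n (PrinPart.pr1 f n z) ∈ W ↔ z ∈ W
  rw [pr1_toNbhd_apply]

theorem appLE_eq {U : X.Opens} (hU : IsAffineOpen U) {C : CommRingCat.{u}} (φ : Γ(X, U) ⟶ C) (h) :
    (Spec.map φ ≫ hU.fromSpec).appLE U ⊤ h = φ ≫ (Scheme.ΓSpecIso C).inv := by
  have e1 : hU.fromSpec.appLE U ⊤ hU.fromSpec_preimage_self.ge = (Scheme.ΓSpecIso Γ(X, U)).inv := by
    rw [Scheme.Hom.appLE, hU.fromSpec_app_self, Category.assoc, ← Functor.map_comp]
    refine (congrArg (_ ≫ ·) ((congrArg _ (Subsingleton.elim _ (𝟙 _))).trans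
      ((Spec Γ(X, U)).presheaf.map_id _))).trans (Category.comp_id _)
  rw [← Scheme.Hom.appLE_comp_appLE (Spec.map φ) hU.fromSpec U ⊤ ⊤ hU.fromSpec_preimage_self.ge le_rfl, e1,
    show (Spec.map φ).appLE ⊤ ⊤ le_rfl = (Spec.map φ).appTop from (Scheme.Hom.app_eq_appLE _).symm]
  exact (Scheme.ΓSpecIso_inv_naturality φ).symm

variable {U : X.Opens} {V : S.Opens} (hUV : U ≤ f ⁻¹ᵁ V)

theorem le_pr2 (U : X.Opens) : PrinPart.pr1 f n ⁻¹ᵁ U ≤ PrinPart.pr2 f n ⁻¹ᵁ U := (PrinPart.preimage_pr1 f n U).le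

theorem comm_base : f.appLE V U hUV ≫ (PrinPart.pr2 f n).appLE U _ (le_pr2 f n U) =
    f.appLE V U hUV ≫ (PrinPart.pr1 f n).appLE U (PrinPart.pr1 f n ⁻¹ᵁ U) le_rfl := by
  rw [Scheme.Hom.appLE_comp_appLE, Scheme.Hom.appLE_comp_appLE]
  exact OmegaSh.appLE_congr_hom (PrinPart.pr1_comp f n).symm _ _

/-- The ring map `B ⊗[A] B → Γ(nbhd, pr1⁻¹ U)`. -/
noncomputable def nbhdHom :
    letI := (f.appLE V U hUV).hom.toAlgebra
    Γ(X, U) ⊗[Γ(S, V)] Γ(X, U) →+* Γ(PrinPart.nbhd f n, PrinPart.pr1 f n ⁻¹ᵁ U) :=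
  letI := (f.appLE V U hUV).hom.toAlgebra
  letI := (((PrinPart.pr1 f n).appLE U _ le_rfl).hom.comp (f.appLE V U hUV).hom).toAlgebra
  (Algebra.TensorProduct.lift
    ({ ((PrinPart.pr1 f n).appLE U (PrinPart.pr1 f n ⁻¹ᵁ U) le_rfl).hom with commutes' := fun _ => rfl } :
      Γ(X, U) →ₐ[Γ(S, V)] Γ(PrinPart.nbhd f n, PrinPart.pr1 f n ⁻¹ᵁ U))
    ({ ((PrinPart.pr2 f n).appLE U (PrinPart.pr1 f n ⁻¹ᵁ U) (le_pr2 f n U)).hom with
        commutes' := fun a => RingHom.congr_fun (congrArg CommRingCat.Hom.hom (comm_base f n hUV)) a } :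
      Γ(X, U) →ₐ[Γ(S, V)] Γ(PrinPart.nbhd f n, PrinPart.pr1 f n ⁻¹ᵁ U))
    (fun _ _ => Commute.all _ _)).toRingHom

theorem nbhdHom_tmul (a b : Γ(X, U)) :
    letI := (f.appLE V U hUV).hom.toAlgebra
    nbhdHom f n hUV (a ⊗ₜ[Γ(S, V)] b) =
      (PrinPart.pr1 f n).app U a *
        (PrinPart.nbhd f n).presheaf.map (homOfLE (le_pr2 f n U)).op ((PrinPart.pr2 f n).app U b) := by
  letI := (f.appLE V U hUV).hom.toAlgebra
  rw [Scheme.Hom.app_eq_appLE (PrinPart.pr1 f n)]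
  simp only [nbhdHom, AlgHom.toRingHom_eq_coe, RingHom.coe_coe, Algebra.TensorProduct.lift_tmul]
  rfl

/-- The sections of the neighbourhood over a chart. -/
theorem nbhdHom_chart (hU : IsAffineOpen U) (hV : IsAffineOpen V) :
    letI := (f.appLE V U hUV).hom.toAlgebra
    Function.Surjective (nbhdHom f n hUV) ∧
      RingHom.ker (nbhdHom f n hUV) = KaehlerDifferential.ideal Γ(S, V) Γ(X, U) ^ (n + 1) := by
  letI := (f.appLE V U hUV).hom.toAlgebra
  obtain ⟨ν, hν, hνr, h1, h2⟩ := exists_chart f n hU hV hUV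
  have hW : ν.opensRange = PrinPart.pr1 f n ⁻¹ᵁ U := Opens.ext hνr
  have hle : ⊤ ≤ ν ⁻¹ᵁ (PrinPart.pr1 f n ⁻¹ᵁ U) := fun z _ => hνr.le ⟨z, rfl⟩
  let q : Γ(PrinPart.nbhd f n, PrinPart.pr1 f n ⁻¹ᵁ U) →+* (Γ(X, U) ⊗[Γ(S, V)] Γ(X, U)) ⧸
      KaehlerDifferential.ideal Γ(S, V) Γ(X, U) ^ (n + 1) :=
    ((Scheme.ΓSpecIso _).hom.hom).comp (ν.appLE (PrinPart.pr1 f n ⁻¹ᵁ U) ⊤ hle).hom
  have hbij : Function.Bijective q := by
    have : IsIso (ν.appLE (PrinPart.pr1 f n ⁻¹ᵁ U) ⊤ hle) := by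
      show IsIso (ν.app _ ≫ _)
      haveI := ν.isIso_app (PrinPart.pr1 f n ⁻¹ᵁ U) hW.ge
      have hh : ν ⁻¹ᵁ (PrinPart.pr1 f n ⁻¹ᵁ U) = ⊤ := top_le_iff.1 hle
      haveI : IsIso (homOfLE hle) := ⟨homOfLE hh.le, Subsingleton.elim _ _, Subsingleton.elim _ _⟩
      infer_instance
    exact (ConcreteCategory.bijective_of_isIso (Scheme.ΓSpecIso _).hom).comp
      (ConcreteCategory.bijective_of_isIso (ν.appLE (PrinPart.pr1 f n ⁻¹ᵁ U) ⊤ hle))
  have hq : q.comp (nbhdHom f n hUV) = Ideal.Quotient.mk _ := by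
    refine RingHom.ext fun z => ?_
    induction z using TensorProduct.induction_on with
    | zero => simp
    | add x y hx hy => simp only [map_add, hx, hy]
    | tmul a b =>
      rw [RingHom.comp_apply, nbhdHom_tmul, map_mul]
      have key : ∀ (p : PrinPart.nbhd f n ⟶ X) (hp : PrinPart.pr1 f n ⁻¹ᵁ U ≤ p ⁻¹ᵁ U)
          (ι : Γ(X, U) →+* (Γ(X, U) ⊗[Γ(S, V)] Γ(X, U)) ⧸ KaehlerDifferential.ideal Γ(S, V) Γ(X, U) ^ (n + 1))
          (_ : ν ≫ p = Spec.map (CommRingCat.ofHom ι) ≫ hU.fromSpec) (c : Γ(X, U)),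
          q (p.appLE U (PrinPart.pr1 f n ⁻¹ᵁ U) hp c) = ι c := by
        intro p hp ι hι c
        show (p.appLE U _ hp ≫ ν.appLE _ ⊤ hle ≫ (Scheme.ΓSpecIso _).hom).hom c = ι c
        rw [Scheme.Hom.appLE_comp_appLE_assoc, OmegaSh.appLE_congr_hom hι _
          (by rw [← hι]; exact fun z hz => hp (hle hz)), appLE_eq hU, Category.assoc, Iso.inv_hom_id,
          Category.comp_id]
        rfl
      rw [show (PrinPart.pr1 f n).app U a = (PrinPart.pr1 f n).appLE U _ le_rfl a by rw [Scheme.Hom.app_eq_appLE],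
        key _ le_rfl _ h1]
      refine (congrArg (_ * ·) (key _ (le_pr2 f n U) _ h2 b)).trans ?_
      show Ideal.Quotient.mk _ (a ⊗ₜ 1) * Ideal.Quotient.mk _ (1 ⊗ₜ b) = _
      rw [← map_mul, Algebra.TensorProduct.tmul_mul_tmul, mul_one, one_mul]
  constructor
  · intro z
    obtain ⟨y, hy⟩ := Ideal.Quotient.mk_surjective (q z)
    exact ⟨y, hbij.1 (by rw [← hy, ← hq]; rfl)⟩
  · rw [← RingHom.ker_comp_of_injective (nbhdHom f n hUV) hbij.1, hq, Ideal.mk_ker]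

end Groth.Agent.PP12
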