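import Groth.Agent.Lib.FormalH7.Ideal
import Groth.Prelude.Def_OmegaPn
import Mathlib.RingTheory.Kaehler.Basic
import Mathlib.AlgebraicGeometry.Morphisms.Immersion

/-!
# Charts of the infinitesimal neighbourhoods of the diagonal

`exists_chart_infNbhd` : comparison of infinitesimal neighbourhoods through a common open subscheme.
`exists_chart` : over an affine `U` lying over an affine `V`, `nbhd f n` is `Spec (B ⊗[A] B / I ^ (n + 1))`.
-/

set_option autoImplicit false
set_option backward.isDefEq.respectTransparency false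
set_option backward.isDefEq.respectTransparency.types false
set_option linter.style.haveILetI false

universe u

open CategoryTheory CategoryTheory.Limits AlgebraicGeometry TopologicalSpace Opposite TensorProduct

namespace Groth.Agent.PP12

/-- A morphism through a monomorphism is pulled back to itself. -/
theorem isPullback_of_mono {T W P : Scheme.{u}} (w : T ⟶ W) (γ : W ⟶ P) [Mono γ] (δ : T ⟶ P)
    (h : w ≫ γ = δ) : IsPullback w (𝟙 T) γ δ :=
  IsPullback.of_isLimit' ⟨by rw [Category.id_comp, h]⟩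
    (PullbackCone.IsLimit.mk (fst := w) (snd := 𝟙 _) (by rw [Category.id_comp, h]) (fun s => s.snd)
      (fun s => by rw [← cancel_mono γ, Category.assoc, h]; exact s.condition.symm)
      (fun s => Category.comp_id _) (fun s m _ h2 => by simpa using h2))

/-- The subscheme of a pulled back ideal inside an open containing the support. -/
theorem exists_chart_subscheme {W W₀ P : Scheme.{u}} (β : W₀ ⟶ W) [IsOpenImmersion β] (γ : W₀ ⟶ P)
    [IsOpenImmersion γ] (K : W.IdealSheafData) (L : P.IdealSheafData)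
    (hKL : K.comap β = L.comap γ) (hsupp : (L.support : Set P) ⊆ Set.range γ) :
    ∃ ν : L.subscheme ⟶ K.subscheme, IsOpenImmersion ν ∧ Set.range ν = K.subschemeι ⁻¹' Set.range β ∧
      ∃ w : L.subscheme ⟶ W₀, w ≫ γ = L.subschemeι ∧ w ≫ β = ν ≫ K.subschemeι := by
  let e : pullback γ L.subschemeι ≅ pullback β K.subschemeι :=
    (L.comapIso γ).symm ≪≫ eqToIso (by rw [hKL]) ≪≫ K.comapIso β
  have he : e.hom ≫ pullback.fst β K.subschemeι = pullback.fst γ L.subschemeι := by
    have key : ∀ (M N : W₀.IdealSheafData) (h : M = N) (h' : M.subscheme = N.subscheme),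
        eqToHom h' ≫ N.subschemeι = M.subschemeι := by
      intro M N h h'; subst h; simp
    simp only [e, Iso.trans_hom, Iso.symm_hom, eqToIso.hom, Category.assoc,
      Scheme.IdealSheafData.comapIso_hom_fst]
    rw [key _ _ hKL.symm, Scheme.IdealSheafData.comapIso_inv_subschemeι]
  haveI : Surjective (pullback.snd γ L.subschemeι) := ⟨fun z => by
    have : z ∈ Set.range (pullback.snd γ L.subschemeι) := by
      rw [Scheme.Pullback.range_snd]
      exact hsupp (by rw [← Scheme.IdealSheafData.range_subschemeι]; exact Set.mem_range_self z)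
    exact this⟩
  haveI : IsIso (pullback.snd γ L.subschemeι) :=
    (isIso_iff_isOpenImmersion_and_surjective _).2 ⟨inferInstance, inferInstance⟩
  refine ⟨inv (pullback.snd γ L.subschemeι) ≫ e.hom ≫ pullback.snd β K.subschemeι, inferInstance, ?_,
    inv (pullback.snd γ L.subschemeι) ≫ pullback.fst γ L.subschemeι, ?_, ?_⟩
  · rw [Scheme.Hom.comp_base, TopCat.coe_comp, Set.range_comp, Set.range_eq_univ.2 (Surjective.surj),
      Set.image_univ, Scheme.Hom.comp_base, TopCat.coe_comp, Set.range_comp,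
      Set.range_eq_univ.2 (Surjective.surj), Set.image_univ, Scheme.Pullback.range_snd]
  · rw [Category.assoc, pullback.condition, IsIso.inv_hom_id_assoc]
  · simp only [Category.assoc]
    rw [← pullback.condition, reassoc_of% he]

variable {X S : Scheme.{u}} (f : X ⟶ S)

/-- Over an affine `U` lying over an affine `V`, the infinitesimal neighbourhood of the diagonal is the spectrum
of `B ⊗[A] B ⧸ I ^ (n + 1)`, the projections being the two coprojections. -/
theorem exists_chart (n : ℕ) {U : X.Opens} (hU : IsAffineOpen U) {V : S.Opens} (hV : IsAffineOpen V)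
    (hUV : U ≤ f ⁻¹ᵁ V) :
    letI := (f.appLE V U hUV).hom.toAlgebra
    ∃ ν : Spec (CommRingCat.of ((Γ(X, U) ⊗[Γ(S, V)] Γ(X, U)) ⧸
        KaehlerDifferential.ideal Γ(S, V) Γ(X, U) ^ (n + 1))) ⟶ PrinPart.nbhd f n,
      IsOpenImmersion ν ∧ Set.range ν = PrinPart.pr1 f n ⁻¹' (U : Set X) ∧
      ν ≫ PrinPart.pr1 f n = Spec.map (CommRingCat.ofHom ((Ideal.Quotient.mk _).comp
        (Algebra.TensorProduct.includeLeftRingHom : Γ(X, U) →+* Γ(X, U) ⊗[Γ(S, V)] Γ(X, U)))) ≫ hU.fromSpec ∧
      ν ≫ PrinPart.pr2 f n = Spec.map (CommRingCat.ofHom ((Ideal.Quotient.mk _).comp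
        (Algebra.TensorProduct.includeRight :
          Γ(X, U) →ₐ[Γ(S, V)] Γ(X, U) ⊗[Γ(S, V)] Γ(X, U)).toRingHom)) ≫ hU.fromSpec := by
  letI := (f.appLE V U hUV).hom.toAlgebra
  have hsq : Spec.map (CommRingCat.ofHom (algebraMap Γ(S, V) Γ(X, U))) ≫ hV.fromSpec = hU.fromSpec ≫ f :=
    IsAffineOpen.SpecMap_appLE_fromSpec f hV hU hUV
  let γ₀ : Spec (CommRingCat.of (Γ(X, U) ⊗[Γ(S, V)] Γ(X, U))) ⟶ pullback f f :=
    (pullbackSpecIso Γ(S, V) Γ(X, U) Γ(X, U)).inv ≫ pullback.map _ _ f f hU.fromSpec hU.fromSpec hV.fromSpec hsq hsq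
  haveI : IsOpenImmersion γ₀ := inferInstance
  have hfst : γ₀ ≫ pullback.fst f f =
      Spec.map (CommRingCat.ofHom Algebra.TensorProduct.includeLeftRingHom) ≫ hU.fromSpec := by
    simp only [γ₀, Category.assoc, pullback.lift_fst]
    rw [pullbackSpecIso_inv_fst_assoc]
  have hsnd : γ₀ ≫ pullback.snd f f =
      Spec.map (CommRingCat.ofHom (Algebra.TensorProduct.includeRight :
          Γ(X, U) →ₐ[Γ(S, V)] Γ(X, U) ⊗[Γ(S, V)] Γ(X, U)).toRingHom) ≫ hU.fromSpec := by
    simp only [γ₀, Category.assoc, pullback.lift_snd]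
    rw [pullbackSpecIso_inv_snd_assoc]
    rfl
  have hrange : Set.range γ₀ = pullback.fst f f ⁻¹' (U : Set X) ∩ pullback.snd f f ⁻¹' (U : Set X) := by
    simp only [γ₀]
    rw [Scheme.Hom.comp_base, TopCat.coe_comp, Set.range_comp, Set.range_eq_univ.2 (Surjective.surj),
      Set.image_univ, Scheme.Pullback.range_map]
    erw [hU.range_fromSpec]
  let δ : Spec (CommRingCat.of Γ(X, U)) ⟶ Spec (CommRingCat.of (Γ(X, U) ⊗[Γ(S, V)] Γ(X, U))) :=
    Spec.map (CommRingCat.ofHom (Algebra.TensorProduct.lmul' Γ(S, V) (S := Γ(X, U))).toRingHom)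
  have hlm : Function.Surjective (Algebra.TensorProduct.lmul' Γ(S, V) (S := Γ(X, U))).toRingHom :=
    fun b => ⟨b ⊗ₜ 1, by simp⟩
  haveI : IsClosedImmersion δ := IsClosedImmersion.spec_of_surjective _ hlm
  have hδ : δ ≫ γ₀ = hU.fromSpec ≫ pullback.diagonal f := by
    refine pullback.hom_ext ?_ ?_
    · rw [Category.assoc, hfst, Category.assoc, pullback.diagonal_fst, Category.comp_id, ← Category.assoc,
        ← Spec.map_comp]
      convert Category.id_comp _
      rw [← Spec.map_id]
      congr 1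
      ext b
      simp
    · rw [Category.assoc, hsnd, Category.assoc, pullback.diagonal_snd, Category.comp_id, ← Category.assoc,
        ← Spec.map_comp]
      convert Category.id_comp _
      rw [← Spec.map_id]
      congr 1
      ext b
      simp
  let W₀ : (Spec (CommRingCat.of (Γ(X, U) ⊗[Γ(S, V)] Γ(X, U)))).Opens :=
    γ₀ ⁻¹ᵁ (pullback.diagonal f).coborderRange
  let β : (W₀ : Scheme.{u}) ⟶ ((pullback.diagonal f).coborderRange : Scheme.{u}) :=
    γ₀ ∣_ (pullback.diagonal f).coborderRange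
  have hβ : β ≫ (pullback.diagonal f).coborderRange.ι = W₀.ι ≫ γ₀ := morphismRestrict_ι _ _
  have hδW : Set.range δ ⊆ Set.range W₀.ι := by
    rintro _ ⟨z, rfl⟩
    rw [Scheme.Opens.range_ι]
    show γ₀ (δ z) ∈ (pullback.diagonal f).coborderRange
    rw [← Scheme.Hom.comp_apply, hδ, Scheme.Hom.comp_apply]
    exact subset_coborder (Set.mem_range_self _)
  let w₀ := IsOpenImmersion.lift W₀.ι δ hδW
  have hw₀ : w₀ ≫ W₀.ι = δ := IsOpenImmersion.lift_fac _ _ _
  have hw₀β : w₀ ≫ β = hU.fromSpec ≫ PrinPart.diagCl f := by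
    rw [← cancel_mono (pullback.diagonal f).coborderRange.ι, Category.assoc, hβ, ← Category.assoc, hw₀, hδ,
      Category.assoc, Scheme.Hom.liftCoborder_ι]
  have hpre : PrinPart.diagCl f ⁻¹ᵁ β.opensRange = hU.fromSpec.opensRange := by
    refine TopologicalSpace.Opens.ext ?_
    show PrinPart.diagCl f ⁻¹' Set.range β = Set.range hU.fromSpec
    have hβr : Set.range β = (pullback.diagonal f).coborderRange.ι ⁻¹' Set.range γ₀ := by
      ext q
      constructor
      · rintro ⟨a, rfl⟩
        exact ⟨W₀.ι a, by rw [← Scheme.Hom.comp_apply, ← hβ, Scheme.Hom.comp_apply]⟩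
      · rintro ⟨p, hp⟩
        have hpW : p ∈ Set.range W₀.ι := by
          rw [Scheme.Opens.range_ι]
          show γ₀ p ∈ (pullback.diagonal f).coborderRange
          rw [hp]
          exact q.2
        obtain ⟨a, rfl⟩ := hpW
        refine ⟨a, (pullback.diagonal f).coborderRange.ι.isEmbedding.injective ?_⟩
        rw [← Scheme.Hom.comp_apply, hβ, Scheme.Hom.comp_apply, hp]
    rw [hβr, hrange, hU.range_fromSpec]
    ext x
    simp only [Set.mem_preimage, Set.mem_inter_iff, SetLike.mem_coe, ← Scheme.Hom.comp_apply,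
      Scheme.Hom.liftCoborder_ι, pullback.diagonal_fst, pullback.diagonal_snd,
      Scheme.Hom.liftCoborder_ι_assoc, Scheme.Hom.id_base, TopCat.id_app, and_self]
  have hker : (PrinPart.diagCl f).ker.comap β = δ.ker.comap W₀.ι := by
    rw [← FormalH7.ker_of_isPullback (IsOpenImmersion.isPullback w₀ hU.fromSpec β (PrinPart.diagCl f)
      hw₀β.symm hpre),
      ← FormalH7.ker_of_isPullback (isPullback_of_mono w₀ W₀.ι δ hw₀)]
  have hδker : δ.ker = FSch.idealSpec _ (KaehlerDifferential.ideal Γ(S, V) Γ(X, U)) := by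
    let I := KaehlerDifferential.ideal Γ(S, V) Γ(X, U)
    let e := RingHom.quotientKerEquivOfSurjective hlm
    have : δ = Spec.map (CommRingCat.ofHom e.toRingHom) ≫ Spec.map (CommRingCat.ofHom (Ideal.Quotient.mk I)) := by
      rw [← Spec.map_comp]
      congr 1
    rw [this]
    haveI : IsIso (CommRingCat.ofHom e.toRingHom) := e.toCommRingCatIso.isIso_hom
    exact Scheme.Hom.ker_comp_of_isIso _ _
  have hK : ((PrinPart.diagCl f).ker ^ (n + 1)).comap β =
      (FSch.idealSpec _ (KaehlerDifferential.ideal Γ(S, V) Γ(X, U) ^ (n + 1))).comap W₀.ι := by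
    rw [BlowUpExist.comap_pow, hker, hδker, FormalH7.idealSpec_pow, BlowUpExist.comap_pow]
  have hsupp : ((FSch.idealSpec _ (KaehlerDifferential.ideal Γ(S, V) Γ(X, U) ^ (n + 1))).support :
      Set (Spec (CommRingCat.of (Γ(X, U) ⊗[Γ(S, V)] Γ(X, U))))) ⊆ Set.range W₀.ι := by
    rw [FormalH7.support_idealSpec]
    refine fun z hz => hδW ?_
    show z ∈ Set.range (PrimeSpectrum.comap (Algebra.TensorProduct.lmul' Γ(S, V) (S := Γ(X, U))).toRingHom)
    rw [range_comap_of_surjective _ _ hlm, PrimeSpectrum.mem_zeroLocus]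
    intro a ha
    refine z.2.mem_of_pow_mem (n + 1) (hz ?_)
    exact Ideal.pow_mem_pow ha _
  obtain ⟨ν₁, hν₁, hν₁r, w, hwγ, hwβ⟩ := exists_chart_subscheme β W₀.ι _ _ hK hsupp
  let q : Spec (CommRingCat.of ((Γ(X, U) ⊗[Γ(S, V)] Γ(X, U)) ⧸
      KaehlerDifferential.ideal Γ(S, V) Γ(X, U) ^ (n + 1))) ⟶ _ :=
    Spec.map (CommRingCat.ofHom (Ideal.Quotient.mk (KaehlerDifferential.ideal Γ(S, V) Γ(X, U) ^ (n + 1))))
  haveI : IsClosedImmersion q := IsClosedImmersion.spec_of_surjective _ Ideal.Quotient.mk_surjective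
  refine ⟨q.toImage ≫ ν₁, inferInstance, ?_, ?_⟩
  · rw [Scheme.Hom.comp_base, TopCat.coe_comp, Set.range_comp, Set.range_eq_univ.2 (Surjective.surj),
      Set.image_univ]
    refine hν₁r.trans ?_
    ext z
    obtain ⟨y, rfl⟩ := PrinPart.toInfNbhd_surjective (PrinPart.diagCl f) n z
    show PrinPart.infNbhdι (PrinPart.diagCl f) n (PrinPart.toInfNbhd (PrinPart.diagCl f) n y) ∈ Set.range β ↔
      PrinPart.pr1 f n (PrinPart.toNbhd f n y) ∈ (U : Set X)
    rw [← Scheme.Hom.comp_apply, PrinPart.toInfNbhd_ι, ← Scheme.Hom.comp_apply, PrinPart.toNbhd_pr1]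
    have := congrArg (fun O : X.Opens => y ∈ O) hpre
    simp only [Scheme.Hom.mem_opensRange, Scheme.Hom.mem_preimage] at this
    rw [show ((𝟙 X : X ⟶ X) y ∈ (U : Set X)) ↔ y ∈ Set.range hU.fromSpec by rw [hU.range_fromSpec]; rfl]
    exact Eq.to_iff this
  · have hν : (q.toImage ≫ ν₁) ≫ PrinPart.nbhdι f n = q ≫ γ₀ := by
      show (q.toImage ≫ ν₁) ≫ ((PrinPart.diagCl f).ker ^ (n + 1)).subschemeι ≫ _ = _
      rw [Category.assoc, ← Category.assoc ν₁, ← hwβ, Category.assoc, hβ, ← Category.assoc w, hwγ]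
      exact Scheme.Hom.toImage_imageι_assoc q _
    constructor
    · rw [PrinPart.pr1, ← Category.assoc, hν, Category.assoc, hfst, ← Category.assoc, ← Spec.map_comp]
      rfl
    · rw [PrinPart.pr2, ← Category.assoc, hν, Category.assoc, hsnd, ← Category.assoc, ← Spec.map_comp]
      rfl

end Groth.Agent.PP12
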