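import Groth.Agent.Lib.CohFound.ModQuot
import Groth.Agent.Lib.PP12.Basic

/-!
# Direct images along morphisms which are homeomorphisms commute with colimits
-/

set_option autoImplicit false
set_option backward.isDefEq.respectTransparency false
set_option backward.isDefEq.respectTransparency.types false
set_option linter.style.haveILetI false

universe u

open CategoryTheory CategoryTheory.Limits AlgebraicGeometry TopologicalSpace Opposite TensorProduct

namespace Groth.Agent.PP12

variable {Z X : Scheme.{u}} (p : Z ⟶ X)

local notation "Pu" => Scheme.Modules.pushforward p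

theorem stalkPush_germ' (N : Z.Modules) (z : Z) {U : X.Opens} (h : p z ∈ U) (s : Γ((Pu).obj N, U)) :
    TopCat.Presheaf.stalkPushforward AddCommGrpCat.{u} p.base N.presheaf z
      (((Pu).obj N).presheaf.germ U (p z) h s) = N.presheaf.germ (p ⁻¹ᵁ U) z h s :=
  ConcreteCategory.congr_hom (TopCat.Presheaf.stalkPushforward_germ AddCommGrpCat.{u} p.base N.presheaf U z h) s

/-- Stalks of direct images along an inducing morphism. -/
noncomputable def stalkPushIso' (hp : Topology.IsInducing p) (z : Z) : (Pu) ⋙ M1.stalkAb (p z) ≅ M1.stalkAb z :=
  NatIso.ofComponents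
    (fun N => @asIso _ _ _ _ (TopCat.Presheaf.stalkPushforward AddCommGrpCat.{u} p.base N.presheaf z)
      (TopCat.Presheaf.stalkPushforward.stalkPushforward_iso_of_isInducing (C := AddCommGrpCat.{u})
        (f := p.base) hp N.presheaf z))
    fun {N N'} f => by
      ext a
      obtain ⟨U, hU, s, rfl⟩ := ((Pu).obj N).presheaf.exists_germ_eq a
      change TopCat.Presheaf.stalkPushforward AddCommGrpCat.{u} p.base N'.presheaf z
          ((M1.stalkAb (p z)).map ((Pu).map f) (((Pu).obj N).presheaf.germ U (p z) hU s)) =
        (M1.stalkAb z).map f (TopCat.Presheaf.stalkPushforward AddCommGrpCat.{u} p.base N.presheaf z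
          (((Pu).obj N).presheaf.germ U (p z) hU s))
      rw [stalkPush_germ' p N z hU s, M1.germ_naturality, M1.germ_naturality]
      exact stalkPush_germ' p N' z hU _

theorem preservesColimits_pushforward (hp : Topology.IsInducing p) (hs : Function.Surjective p) :
    PreservesColimitsOfSize.{u, u} (Pu) where
  preservesColimitsOfShape {J} _ := ⟨fun {K} => by
    haveI : IsIso (colimit.post K (Pu)) := by
      rw [M1.isIso_iff_stalk]
      intro x
      obtain ⟨z, rfl⟩ := hs x
      haveI : PreservesColimit K (Pu ⋙ M1.stalkAb (p z)) :=
        preservesColimit_of_natIso K (stalkPushIso' p hp z).symm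
      haveI : IsIso ((M1.stalkAb (p z)).map (colimit.post K (Pu))) := by
        haveI : IsIso (colimit.post (K ⋙ Pu) (M1.stalkAb (p z)) ≫
            (M1.stalkAb (p z)).map (colimit.post K (Pu))) := by
          rw [colimit.post_post]
          exact inferInstanceAs (IsIso (colimit.post K (Pu ⋙ M1.stalkAb (p z))))
        exact IsIso.of_isIso_comp_left (colimit.post (K ⋙ Pu) (M1.stalkAb (p z))) _
      exact ConcreteCategory.bijective_of_isIso _
    exact preservesColimit_of_isIso_post (Pu) K⟩

end Groth.Agent.PP12
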