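import Groth.Agent.Lib.PP12.Lift
import Groth.Prelude.Def_Omega3
import Groth.Agent.Lib.Omega12.Universal

/-!
# Differential operators: composition, monotonicity, the alternating sum criterion, order one
-/

set_option autoImplicit false
set_option backward.isDefEq.respectTransparency false
set_option backward.isDefEq.respectTransparency.types false
set_option linter.style.haveILetI false

universe u

open CategoryTheory CategoryTheory.Limits AlgebraicGeometry TopologicalSpace Opposite TensorProduct

namespace Groth.Agent.PP12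

variable {X S : Scheme.{u}} (f : X ⟶ S) {F G H : X.Modules}

theorem isDiffOpLE_comp {n n' : ℕ} {D : F.presheaf ⟶ G.presheaf} {D' : G.presheaf ⟶ H.presheaf}
    (hD : PrinPart.IsDiffOpLE f F G n D) (hD' : PrinPart.IsDiffOpLE f G H n' D') :
    PrinPart.IsDiffOpLE f F H (n + n') (D ≫ D') := by
  rw [isDiffOpLE_iff] at hD hD' ⊢
  refine ⟨fun V s U hU t => ?_, fun U V hU hV hUV => ord_comp (hD.2 U V hU hV hUV) (hD'.2 U V hU hV hUV)⟩
  exact (congrArg (D'.app (op U)) (hD.1 V s U hU t)).trans (hD'.1 V s U hU _)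

theorem isDiffOpLE_of_le {n m : ℕ} (h : n ≤ m) {D : F.presheaf ⟶ G.presheaf}
    (hD : PrinPart.IsDiffOpLE f F G n D) : PrinPart.IsDiffOpLE f F G m D := by
  rw [isDiffOpLE_iff] at hD ⊢
  exact ⟨hD.1, fun U V hU hV hUV => ord_mono h (hD.2 U V hU hV hUV)⟩

theorem isDiffOpLE_dPHom (n : ℕ) (F : X.Modules) :
    PrinPart.IsDiffOpLE f F (PrinPart.PMod f n F) n (PrinPart.dPHom f n F) := ⟨𝟙 _, fun _ _ => rfl⟩

/-- The alternating sum attached to a tuple of functions. -/
theorem altSum_mres (D : F.presheaf ⟶ G.presheaf) {U W : X.Opens} (h : W ≤ U) {m : ℕ} (a : Fin m → Γ(X, U))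
    (t : Γ(F, U)) :
    M1.mres G h (∑ K : Finset (Fin m), ((-1 : ℤ) ^ K.card) • ((∏ i ∈ K, a i) • D.app (op U) ((∏ i ∈ Kᶜ, a i) • t))) =
      ∑ K : Finset (Fin m), ((-1 : ℤ) ^ K.card) • ((∏ i ∈ K, X.presheaf.map (homOfLE h).op (a i)) •
        D.app (op W) ((∏ i ∈ Kᶜ, X.presheaf.map (homOfLE h).op (a i)) • M1.mres F h t)) := by
  rw [map_sum]
  refine Finset.sum_congr rfl fun K _ => ?_
  rw [map_zsmul, M1.mres_smul, ← map_prod]
  refine congrArg (fun y => ((-1 : ℤ) ^ K.card) • (_ • y)) ?_
  refine (appHom_mres D h _).symm.trans (congrArg (D.app (op W)) ?_)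
  rw [M1.mres_smul, ← map_prod]

theorem isDiffOpLE_iff_altSum (n : ℕ) (D : F.presheaf ⟶ G.presheaf) (hlin : IsBaseLin f D) :
    PrinPart.IsDiffOpLE f F G n D ↔
      ∀ (U : X.Opens) (a : Fin (n + 1) → Γ(X, U)) (t : Γ(F, U)),
        (∑ K : Finset (Fin (n + 1)),
          ((-1 : ℤ) ^ K.card) • ((∏ i ∈ K, a i) • D.app (op U) ((∏ i ∈ Kᶜ, a i) • t))) = 0 := by
  classical
  rw [isDiffOpLE_iff]
  constructor
  · intro hD U a t
    refine M1.section_ext _ _ fun x hx => ?_
    obtain ⟨V, hV, hxV, -⟩ := exists_isAffineOpen_mem_and_subset (X := S) (x := f x) (U := ⊤) trivial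
    obtain ⟨W, hW, hxW, hle⟩ := exists_isAffineOpen_mem_and_subset (X := X) (x := x) (U := U ⊓ f ⁻¹ᵁ V) ⟨hx, hxV⟩
    have hWU : W ≤ U := fun y hy => (hle hy).1
    have hWV : W ≤ f ⁻¹ᵁ V := fun y hy => (hle hy).2
    letI := (f.appLE V W hWV).hom.toAlgebra
    rw [← M1.germ_mres G hWU hxW, altSum_mres, map_zero]
    refine (congrArg _ ?_).trans (map_zero _)
    rw [← linAdd_prod_delta (baseLin_appHom f D hlin hWV)]
    rw [prod_delta_of_ord (baseLin_appHom f D hlin hWV) n (hD.2 W V hW hV hWV)]
    rfl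
  · intro h
    refine ⟨hlin, fun U V hU hV hUV => ?_⟩
    letI := (f.appLE V U hUV).hom.toAlgebra
    refine ord_of_prod_delta (baseLin_appHom f D hlin hUV) n fun a => AddMonoidHom.ext fun t => ?_
    rw [linAdd_prod_delta]
    exact h U a t

/-- The comultiplication of principal parts. -/
theorem existsUnique_delta (n n' : ℕ) :
    ∃! δ : PrinPart.P f (n + n') ⟶ PrinPart.PMod f n' (PrinPart.P f n),
      ∀ (U : X.Opens) (t : Γ(X, U)),
        δ.app U (PrinPart.dn f (n + n') U t) = PrinPart.dP f n' (PrinPart.P f n) U (PrinPart.dn f n U t) := by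
  obtain ⟨u, hu⟩ := isDiffOpLE_comp f (isDiffOpLE_dPHom f n (Coh.structureModule X))
    (isDiffOpLE_dPHom f n' (PrinPart.P f n))
  refine ⟨u, fun U t => (hu U t).symm, fun v hv => hom_ext_dP f _ _ fun U t => ?_⟩
  exact (hv U t).trans (hu U t)

theorem strSect_smul (U : X.Opens) (r a : Γ(X, U)) :
    r • OmegaSh.strSect X U a = OmegaSh.strSect X U (r * a) := rfl

theorem existsUnique_hom_add_der (G : X.Modules) (D : (Coh.structureModule X).presheaf ⟶ G.presheaf)
    (hD : PrinPart.IsDiffOpLE f (Coh.structureModule X) G 1 D) :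
    ∃! p : (Coh.structureModule X ⟶ G) × OmegaSh.Der f G,
      ∀ (U : X.Opens) (a : Γ(X, U)),
        D.app (op U) (OmegaSh.strSect X U a) = p.1.app U (OmegaSh.strSect X U a) + p.2.app U a := by
  classical
  have hb : IsBaseLin f D := ((isDiffOpLE_iff (f := f) 1).1 hD).1
  have hA := (isDiffOpLE_iff_altSum f 1 D hb).1 hD
  have key : ∀ (U : X.Opens) (a b : Γ(X, U)),
      D.app (op U) (OmegaSh.strSect X U (a * b)) = a • D.app (op U) (OmegaSh.strSect X U b) +
        b • D.app (op U) (OmegaSh.strSect X U a) - (a * b) • D.app (op U) (OmegaSh.strSect X U 1) := by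
    intro U a b
    have h := hA U ![a, b] (OmegaSh.strSect X U 1)
    rw [show (Finset.univ : Finset (Finset (Fin 2))) = {∅, {0}, {1}, {0, 1}} by decide,
      Finset.sum_insert (by decide), Finset.sum_insert (by decide), Finset.sum_insert (by decide), Finset.sum_singleton,
      show (∅ : Finset (Fin 2))ᶜ = {0, 1} by decide, show ({0} : Finset (Fin 2))ᶜ = {1} by decide,
      show ({1} : Finset (Fin 2))ᶜ = {0} by decide, show ({0, 1} : Finset (Fin 2))ᶜ = ∅ by decide] at h
    simp only [Finset.card_empty, Finset.card_singleton, Finset.card_pair (show (0 : Fin 2) ≠ 1 by decide),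
      Finset.prod_empty, Finset.prod_singleton, Finset.prod_pair (show (0 : Fin 2) ≠ 1 by decide),
      Matrix.cons_val_zero, Matrix.cons_val_one, strSect_smul, mul_one, one_smul] at h
    rw [← sub_eq_zero, ← h]
    simp [neg_one_sq]
    abel
  have hone : ∀ {U W : X.Opens} (h : W ≤ U),
      M1.mres G h (D.app (op U) (OmegaSh.strSect X U 1)) = D.app (op W) (OmegaSh.strSect X W 1) := fun {U W} h => by
    refine (appHom_mres D h _).symm.trans (congrArg (D.app (op W)) ?_)
    exact (X.presheaf.map (homOfLE h).op).hom.map_one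
  let vP : (Coh.structureModule X).presheaf ⟶ G.presheaf :=
    { app := fun U => AddCommGrpCat.ofHom (AddMonoidHom.mk'
        (fun a => (show Γ(X, U.unop) from a) • appHom D U.unop (OmegaSh.strSect X U.unop 1)) fun a b => add_smul _ _ _)
      naturality := fun U W i => by
        ext a
        show (show Γ(X, W.unop) from X.presheaf.map i a) • appHom D W.unop (OmegaSh.strSect X W.unop 1) =
          M1.mres G i.unop.le ((show Γ(X, U.unop) from a) • appHom D U.unop (OmegaSh.strSect X U.unop 1))
        rw [M1.mres_smul, hone]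
        rfl }
  let v : Coh.structureModule X ⟶ G :=
    ⟨PresheafOfModules.homMk vP fun U r a => mul_smul (show Γ(X, U.unop) from r) (show Γ(X, U.unop) from a) (appHom D U.unop (OmegaSh.strSect X U.unop 1))⟩
  have hv : ∀ U a, v.app U (OmegaSh.strSect X U a) = a • D.app (op U) (OmegaSh.strSect X U 1) := fun U a => rfl
  let d : OmegaSh.Der f G :=
    { d := fun {U} => AddMonoidHom.mk' (fun a => appHom D U.unop (OmegaSh.strSect X U.unop a) -
          (show Γ(X, U.unop) from a) • appHom D U.unop (OmegaSh.strSect X U.unop 1)) fun a b => by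
        rw [map_add, map_add, add_smul]; abel
      d_mul := fun {U} (a b : Γ(X, U.unop)) => by
        show appHom D U.unop (OmegaSh.strSect X U.unop (a * b)) - (a * b) • _ =
          a • (appHom D U.unop (OmegaSh.strSect X U.unop b) - b • _) + b • (appHom D U.unop (OmegaSh.strSect X U.unop a) - a • _)
        rw [key U.unop a b, smul_sub, smul_sub, smul_smul, smul_smul, mul_comm b a]
        abel
      d_map := fun {U W} i (a : Γ(X, U.unop)) => by
        show appHom D W.unop (OmegaSh.strSect X W.unop (X.presheaf.map i a)) - (show Γ(X, W.unop) from X.presheaf.map i a) • _ =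
          M1.mres G i.unop.le (appHom D U.unop (OmegaSh.strSect X U.unop a) - a • appHom D U.unop (OmegaSh.strSect X U.unop 1))
        rw [map_sub, M1.mres_smul, hone]
        exact congrArg (· - _) ((appHom_mres D i.unop.le (OmegaSh.strSect X U.unop a)))
      d_app := fun {V} c => by
        show D.app (op (f ⁻¹ᵁ V.unop)) (OmegaSh.strSect X _ (f.app V.unop c)) - f.app V.unop c • _ = 0
        have h1 := hb V.unop c (f ⁻¹ᵁ V.unop) le_rfl (OmegaSh.strSect X _ 1)
        rw [show X.presheaf.map (homOfLE (le_refl (f ⁻¹ᵁ V.unop))).op (f.app V.unop c) = f.app V.unop c from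
          ConcreteCategory.congr_hom (X.presheaf.map_id _) _, strSect_smul, mul_one] at h1
        exact sub_eq_zero.2 h1 }
  refine ⟨(v, d), fun U a => ?_, ?_⟩
  · show _ = v.app U (OmegaSh.strSect X U a) + (D.app (op U) (OmegaSh.strSect X U a) - a • _)
    rw [hv]; abel
  · rintro ⟨w, e⟩ hp
    dsimp only at hp
    have he1 : ∀ U, e.app U (1 : Γ(X, U)) = 0 := fun U => by
      have := e.d_mul (X := op U) 1 1
      simp only [mul_one, one_smul] at this
      exact (left_eq_add.1 this : _)
    have hw : ∀ U a, w.app U (OmegaSh.strSect X U a) = a • D.app (op U) (OmegaSh.strSect X U 1) := fun U a => by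
      rw [hp U 1, he1, add_zero, ← Scheme.Modules.Hom.app_smul, strSect_smul, mul_one]
    have hw' : w = v := by
      refine Scheme.Modules.hom_ext _ _ fun U => ?_
      ext a
      exact (hw U a).trans (hv U a).symm
    subst hw'
    refine Prod.ext rfl ?_
    have : ∀ U a, e.app U a = d.app U a := fun U a => by
      show e.app U a = D.app (op U) (OmegaSh.strSect X U a) - a • _
      rw [hp U a, hv]; abel
    exact Omega12.der_ext f this

end Groth.Agent.PP12
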