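import Groth.Agent.Lib.PP12.Gen
import Groth.Agent.Lib.Twist.Pullback

/-!
# Sections of `Pⁿ` are functions on the neighbourhood
-/

set_option autoImplicit false
set_option backward.isDefEq.respectTransparency false
set_option backward.isDefEq.respectTransparency.types false
set_option linter.style.haveILetI false

universe u

open CategoryTheory CategoryTheory.Limits AlgebraicGeometry TopologicalSpace Opposite TensorProduct

namespace Groth.Agent.PP12

theorem pullbackUnitIso_pullSect {X Y : Scheme.{u}} (q : Y ⟶ X) (U : X.Opens) (t : Γ(X, U)) :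
    (Twist.pullbackUnitIso q).hom.app (q ⁻¹ᵁ U)
        (OmegaSh.pullSect q (Coh.structureModule X) U (OmegaSh.strSect X U t)) =
      OmegaSh.strSect Y (q ⁻¹ᵁ U) (q.app U t) := by
  have h := congrArg (fun φ => Scheme.Modules.Hom.app φ U (OmegaSh.strSect X U t))
    (((Scheme.Modules.pullbackPushforwardAdjunction q).homEquiv (Coh.structureModule X) (Coh.structureModule Y)).apply_symm_apply
      (SheafOfModules.unitToPushforwardObjUnit q.toRingCatSheafHom))
  simp only [Adjunction.homEquiv_unit] at h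
  exact h

variable {X S : Scheme.{u}} (f : X ⟶ S) (n : ℕ)

/-- Sections of `Pⁿ` over `U` as functions on `pr1⁻¹ U`. -/
noncomputable def sectFun (U : X.Opens) : Γ(PrinPart.P f n, U) ≃+ Γ(PrinPart.nbhd f n, PrinPart.pr1 f n ⁻¹ᵁ U) :=
  AddEquiv.ofBijective ((Twist.pullbackUnitIso (PrinPart.pr2 f n)).hom.app (PrinPart.pr1 f n ⁻¹ᵁ U)).hom
    (by
      haveI : IsIso ((Twist.pullbackUnitIso (PrinPart.pr2 f n)).hom.app (PrinPart.pr1 f n ⁻¹ᵁ U)) :=
        Scheme.Modules.Hom.isIso_iff_isIso_app.1 inferInstance _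
      exact ConcreteCategory.bijective_of_isIso
        ((Twist.pullbackUnitIso (PrinPart.pr2 f n)).hom.app (PrinPart.pr1 f n ⁻¹ᵁ U)))

theorem sectFun_smul {U : X.Opens} (r : Γ(X, U)) (m : Γ(PrinPart.P f n, U)) :
    sectFun f n U (r • m) = (PrinPart.pr1 f n).app U r * sectFun f n U m :=
  Scheme.Modules.Hom.app_smul (Twist.pullbackUnitIso (PrinPart.pr2 f n)).hom _ _

theorem sectFun_dn {U : X.Opens} (t : Γ(X, U)) :
    sectFun f n U (PrinPart.dn f n U t) =
      (PrinPart.nbhd f n).presheaf.map (homOfLE (le_pr2 f n U)).op ((PrinPart.pr2 f n).app U t) := by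
  refine ((M1.app_mres (Twist.pullbackUnitIso (PrinPart.pr2 f n)).hom (le_pr2 f n U) _) : _).trans ?_
  exact congrArg (M1.mres (Coh.structureModule (PrinPart.nbhd f n)) (le_pr2 f n U))
    (pullbackUnitIso_pullSect (PrinPart.pr2 f n) U t)

theorem sectFun_smul_dn {U : X.Opens} {V : S.Opens} (hUV : U ≤ f ⁻¹ᵁ V) (a b : Γ(X, U)) :
    letI := (f.appLE V U hUV).hom.toAlgebra
    sectFun f n U (a • PrinPart.dn f n U b) = nbhdHom f n hUV (a ⊗ₜ[Γ(S, V)] b) := by
  letI := (f.appLE V U hUV).hom.toAlgebra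
  rw [sectFun_smul, sectFun_dn, nbhdHom_tmul]

/-- The global sections of `Pⁿ` of an affine morphism. -/
theorem globalSections_affine (A B : Type u) [CommRing A] [CommRing B] [Algebra A B] (n : ℕ)
    (ψ : TensorProduct A B B →+
      Γ(PrinPart.P (Spec.map (CommRingCat.ofHom (algebraMap A B))) n, (⊤ : (Spec (CommRingCat.of B)).Opens)))
    (hψ : ∀ b b' : B, ψ (b ⊗ₜ[A] b') =
      (Scheme.ΓSpecIso (CommRingCat.of B)).inv b •
        PrinPart.dn (Spec.map (CommRingCat.ofHom (algebraMap A B))) n ⊤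
          ((Scheme.ΓSpecIso (CommRingCat.of B)).inv b')) :
    Function.Surjective ψ ∧ ψ.ker = (KaehlerDifferential.ideal A B ^ (n + 1)).toAddSubgroup := by
  let f := Spec.map (CommRingCat.ofHom (algebraMap A B))
  have hUV : (⊤ : (Spec (CommRingCat.of B)).Opens) ≤ f ⁻¹ᵁ ⊤ := fun _ _ => trivial
  letI := (f.appLE ⊤ ⊤ hUV).hom.toAlgebra
  obtain ⟨hs, hk⟩ := nbhdHom_chart f n hUV (isAffineOpen_top _) (isAffineOpen_top _)
  let eA : A ≃+* Γ(Spec (CommRingCat.of A), ⊤) := (Scheme.ΓSpecIso (CommRingCat.of A)).symm.commRingCatIsoToRingEquiv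
  let eB : B ≃+* Γ(Spec (CommRingCat.of B), ⊤) := (Scheme.ΓSpecIso (CommRingCat.of B)).symm.commRingCatIsoToRingEquiv
  have hcomm : ∀ a, algebraMap _ _ (eA a) = eB (algebraMap A B a) := fun a => by
    have h1 := congr($(Scheme.ΓSpecIso_inv_naturality (CommRingCat.ofHom (algebraMap A B))) a)
    show (f.appLE ⊤ ⊤ hUV).hom ((Scheme.ΓSpecIso (CommRingCat.of A)).inv a) = _
    rw [show f.appLE ⊤ ⊤ hUV = f.appTop from (Scheme.Hom.app_eq_appLE f).symm]
    exact h1.symm
  letI mA : Algebra A Γ(Spec (CommRingCat.of B), ⊤) := (eB.toRingHom.comp (algebraMap A B)).toAlgebra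
  letI aA : Algebra A Γ(Spec (CommRingCat.of A), ⊤) := eA.toRingHom.toAlgebra
  haveI : IsScalarTower A Γ(Spec (CommRingCat.of A), ⊤) Γ(Spec (CommRingCat.of B), ⊤) :=
    IsScalarTower.of_algebraMap_eq fun a => (hcomm a).symm
  let eBA : B →ₐ[A] Γ(Spec (CommRingCat.of B), ⊤) := { eB.toRingHom with commutes' := fun a => rfl }
  let T : TensorProduct A B B →+*
      Γ(Spec (CommRingCat.of B), ⊤) ⊗[Γ(Spec (CommRingCat.of A), ⊤)] Γ(Spec (CommRingCat.of B), ⊤) :=
    (Algebra.TensorProduct.lift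
      ((Algebra.TensorProduct.includeLeft (R := Γ(Spec (CommRingCat.of A), ⊤))
        (S := Γ(Spec (CommRingCat.of A), ⊤))).restrictScalars A |>.comp eBA)
      ((Algebra.TensorProduct.includeRight (R := Γ(Spec (CommRingCat.of A), ⊤))).restrictScalars A |>.comp eBA)
      (fun _ _ => Commute.all _ _)).toRingHom
  have hT : ∀ b b', T (b ⊗ₜ b') = eB b ⊗ₜ eB b' := fun b b' => by
    show (Algebra.TensorProduct.lift _ _ _) (b ⊗ₜ b') = _
    rw [Algebra.TensorProduct.lift_tmul]
    show eB b ⊗ₜ 1 * 1 ⊗ₜ eB b' = _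
    rw [Algebra.TensorProduct.tmul_mul_tmul, mul_one, one_mul]
  have key : ∀ z, sectFun f n ⊤ (ψ z) = nbhdHom f n hUV (T z) := fun z => by
    induction z using TensorProduct.induction_on with
    | zero => rw [map_zero, map_zero, map_zero, map_zero]
    | add x y hx hy => rw [map_add, map_add, map_add, map_add, hx, hy]
    | tmul b b' => rw [hψ, hT]; exact sectFun_smul_dn f n hUV _ _
  obtain ⟨Ti, hTi, hTi'⟩ : ∃ Ti : Γ(Spec (CommRingCat.of B), ⊤) ⊗[Γ(Spec (CommRingCat.of A), ⊤)]
      Γ(Spec (CommRingCat.of B), ⊤) →+ TensorProduct A B B, (∀ z, Ti (T z) = z) ∧ ∀ w, T (Ti w) = w := by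
    let Ti := TensorProduct.liftAddHom (R := Γ(Spec (CommRingCat.of A), ⊤))
      { toFun := fun p => { toFun := fun q => (eB.symm p) ⊗ₜ[A] (eB.symm q)
                            map_zero' := by simp
                            map_add' := fun q q' => by simp [TensorProduct.tmul_add] }
        map_zero' := by ext; simp
        map_add' := fun p p' => by ext; simp [TensorProduct.add_tmul] }
      (fun r p q => by
        obtain ⟨a, rfl⟩ := eA.surjective r
        show eB.symm (eA a • p) ⊗ₜ[A] eB.symm q = eB.symm p ⊗ₜ[A] eB.symm (eA a • q)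
        rw [Algebra.smul_def, Algebra.smul_def, hcomm, map_mul, map_mul, eB.symm_apply_apply,
          ← Algebra.smul_def, ← Algebra.smul_def, TensorProduct.smul_tmul])
    refine ⟨Ti, fun z => ?_, fun w => ?_⟩
    · induction z using TensorProduct.induction_on with
      | zero => simp
      | add x y hx hy => rw [map_add, map_add, hx, hy]
      | tmul b b' =>
        rw [hT]
        show eB.symm (eB b) ⊗ₜ[A] eB.symm (eB b') = _
        rw [eB.symm_apply_apply, eB.symm_apply_apply]
    · induction w using TensorProduct.induction_on with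
      | zero => simp
      | add x y hx hy => rw [map_add, map_add, hx, hy]
      | tmul b b' =>
        show T (eB.symm b ⊗ₜ[A] eB.symm b') = _
        rw [hT, eB.apply_symm_apply, eB.apply_symm_apply]
  have hTs : Function.Surjective T := fun w => ⟨Ti w, hTi' w⟩
  refine ⟨fun y => ?_, ?_⟩
  · obtain ⟨w, hw⟩ := hs (sectFun f n ⊤ y)
    obtain ⟨z, rfl⟩ := hTs w
    exact ⟨z, (sectFun f n ⊤).injective ((key z).trans hw)⟩
  · have hI : (KaehlerDifferential.ideal A B).map T =
        KaehlerDifferential.ideal Γ(Spec (CommRingCat.of A), ⊤) Γ(Spec (CommRingCat.of B), ⊤) := by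
      rw [← KaehlerDifferential.span_range_eq_ideal, Ideal.map_span, ← KaehlerDifferential.span_range_eq_ideal]
      congr 1
      ext w
      constructor
      · rintro ⟨_, ⟨b, rfl⟩, rfl⟩
        exact ⟨eB b, by simp only [map_sub, hT, map_one]⟩
      · rintro ⟨c, rfl⟩
        exact ⟨_, ⟨eB.symm c, rfl⟩, by simp only [map_sub, hT, map_one, eB.apply_symm_apply]⟩
    ext z
    have h1 : ψ z = 0 ↔ T z ∈ KaehlerDifferential.ideal Γ(Spec (CommRingCat.of A), ⊤) Γ(Spec (CommRingCat.of B), ⊤) ^ (n + 1) := by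
      rw [← hk, RingHom.mem_ker, ← key, map_eq_zero_iff _ (sectFun f n ⊤).injective]
    rw [AddMonoidHom.mem_ker, h1, ← hI, ← Ideal.map_pow]
    constructor
    · intro hz
      obtain ⟨x, hx, hxz⟩ := (Ideal.mem_map_iff_of_surjective T hTs).1 hz
      have : x = z := by rw [← hTi x, hxz, hTi]
      exact this ▸ hx
    · exact fun hz => Ideal.mem_map_of_mem T hz

end Groth.Agent.PP12
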