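import Groth.Agent.Lib.PP12.Colim
import Groth.Agent.Lib.PP12.Sect
import Groth.Agent.Lib.PinchH7.Mod
import Groth.Agent.Lib.ModM1.Stalk
import Groth.Agent.Lib.RefHull26.Dual
import Mathlib.AlgebraicGeometry.Morphisms.Flat

/-!
# Flatness of the sheaf of principal parts
-/

set_option autoImplicit false
set_option backward.isDefEq.respectTransparency false
set_option backward.isDefEq.respectTransparency.types false
set_option linter.style.haveILetI false

universe u

open CategoryTheory CategoryTheory.Limits AlgebraicGeometry TopologicalSpace Opposite TensorProduct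

namespace Groth.Agent.PP12

variable {Z X : Scheme.{u}} (p : Z ⟶ X)

theorem flat_of_isFlat_pushforward (hp : Topology.IsInducing p)
    (h : FlatMod.IsFlat ((Scheme.Modules.pushforward p).obj (Coh.structureModule Z))) : Flat p := by
  refine (Flat.iff_flat_stalkMap p).2 fun z => ?_
  let M : X.Modules := (Scheme.Modules.pushforward p).obj (Coh.structureModule Z)
  let A := X.presheaf.stalk (p z)
  let T := (Coh.structureModule Z).presheaf.stalk z
  letI : Module A T := Module.compHom T (p.stalkMap z).hom
  let σ := TopCat.Presheaf.stalkPushforward AddCommGrpCat.{u} p.base (Coh.structureModule Z).presheaf z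
  haveI : IsIso σ := TopCat.Presheaf.stalkPushforward.stalkPushforward_iso_of_isInducing
    (C := AddCommGrpCat.{u}) (f := p.base) hp (Coh.structureModule Z).presheaf z
  let e : (M.presheaf.stalk (p z) : Type u) ≃ₗ[A] T :=
    LinearEquiv.ofBijective
      (show (M.presheaf.stalk (p z) : Type u) →ₗ[A] T from
        { toFun := fun a => σ a
          map_add' := fun a b => map_add σ.hom a b
          map_smul' := fun r a => by
            obtain ⟨U, hU, s, rfl⟩ := M.presheaf.exists_germ_eq a
            obtain ⟨V, hV, c, rfl⟩ := X.presheaf.exists_germ_eq r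
            have hW : p z ∈ U ⊓ V := ⟨hU, hV⟩
            rw [← TopCat.Presheaf.germ_res_apply M.presheaf (homOfLE (inf_le_left : U ⊓ V ≤ U)) (p z) hW s,
              ← TopCat.Presheaf.germ_res_apply X.presheaf (homOfLE (inf_le_right : U ⊓ V ≤ V)) (p z) hW c,
              RingHom.id_apply]
            refine Eq.trans (congrArg σ (M1.germ_smul M hW _ _).symm) ?_
            refine (stalkPush_germ' p _ z hW _).trans ?_
            refine Eq.trans ?_ (congrArg (_ • ·) (stalkPush_germ' p (Coh.structureModule Z) z hW _)).symm
            show _ = (p.stalkMap z).hom (X.presheaf.germ (U ⊓ V) (p z) hW _) •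
              ((Coh.structureModule Z).presheaf.germ (p ⁻¹ᵁ (U ⊓ V)) z hW _ : T)
            rw [Scheme.Hom.germ_stalkMap_apply]
            exact M1.germ_smul (Coh.structureModule Z) (U := p ⁻¹ᵁ (U ⊓ V)) (x := z) hW _ _ })
      (ConcreteCategory.bijective_of_isIso σ)
  haveI : Module.Flat A (M.presheaf.stalk (p z)) := h (p z)
  have hT : Module.Flat A T := Module.Flat.of_linearEquiv e.symm
  letI : Algebra A (Z.presheaf.stalk z) := (p.stalkMap z).hom.toAlgebra
  show Module.Flat A (Z.presheaf.stalk z)
  let eS : (Z.presheaf.stalk z : Type u) ≃ₗ[Z.presheaf.stalk z] T := RH26.str z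
  exact Module.Flat.of_linearEquiv (M := T) (N := Z.presheaf.stalk z)
    { eS with
      map_smul' := fun r a => by
        show eS ((p.stalkMap z).hom r • a) = _
        exact eS.map_smul _ a }

end Groth.Agent.PP12
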