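import Groth.Agent.Lib.PP12.Basic
import Groth.Agent.Lib.TensorMod.PullStalk
import Groth.Agent.Lib.ModM1.Stalk
import Groth.Agent.Lib.ModM1.Exact

/-!
# Principal parts of a module are generated by the image of the universal operator
-/

set_option autoImplicit false
set_option backward.isDefEq.respectTransparency false
set_option backward.isDefEq.respectTransparency.types false
set_option linter.style.haveILetI false

universe u

open CategoryTheory CategoryTheory.Limits AlgebraicGeometry TopologicalSpace Opposite TensorProduct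

namespace Groth.Agent.PP12

variable {X S : Scheme.{u}} (f : X ⟶ S) (n : ℕ) (F : X.Modules)

/-- Scalars act on principal parts through the first projection. -/
theorem smul_PMod {U : X.Opens} (r : Γ(X, U))
    (m : Γ((Scheme.Modules.pullback (PrinPart.pr2 f n)).obj F, PrinPart.pr1 f n ⁻¹ᵁ U)) :
    r • (show Γ(PrinPart.PMod f n F, U) from m) = ((PrinPart.pr1 f n).app U r • m : _) := rfl

theorem dP_smul {U : X.Opens} (b : Γ(X, U)) (t : Γ(F, U)) :
    (PrinPart.dP f n F U (b • t) : Γ((Scheme.Modules.pullback (PrinPart.pr2 f n)).obj F, PrinPart.pr1 f n ⁻¹ᵁ U)) =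
      (PrinPart.nbhd f n).presheaf.map (homOfLE (le_pr2 f n U)).op ((PrinPart.pr2 f n).app U b) •
        (show Γ((Scheme.Modules.pullback (PrinPart.pr2 f n)).obj F, PrinPart.pr1 f n ⁻¹ᵁ U) from
          PrinPart.dP f n F U t) := by
  rw [PrinPart.dP_apply, PrinPart.dP_apply]
  refine (congrArg _ (M2.pullSec_smul (PrinPart.pr2 f n) F b t)).trans ?_
  exact Scheme.Modules.map_smul _ _ _ _

/-- The span of the image of the universal operator. -/
noncomputable abbrev spanDP (U : X.Opens) : Submodule Γ(X, U) Γ(PrinPart.PMod f n F, U) :=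
  Submodule.span Γ(X, U) (Set.range (PrinPart.dP f n F U))

theorem mres_mem_spanDP {U U' : X.Opens} (h : U' ≤ U) {m : Γ(PrinPart.PMod f n F, U)}
    (hm : m ∈ spanDP f n F U) : M1.mres (PrinPart.PMod f n F) h m ∈ spanDP f n F U' := by
  induction hm using Submodule.span_induction with
  | mem y hy =>
    obtain ⟨t, rfl⟩ := hy
    exact Submodule.subset_span ⟨F.presheaf.map (homOfLE h).op t, PrinPart.dP_map f n F h t⟩
  | zero => rw [map_zero]; exact Submodule.zero_mem _
  | add a b _ _ ha hb => rw [map_add]; exact Submodule.add_mem _ ha hb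
  | smul r a _ ha =>
    rw [M1.mres_smul]
    exact Submodule.smul_mem _ _ ha

/-- Multiples of `dP t` by functions on the neighbourhood, over a chart. -/
theorem smul_dP_mem {U : X.Opens} (hU : IsAffineOpen U) {V : S.Opens} (hV : IsAffineOpen V) (hUV : U ≤ f ⁻¹ᵁ V)
    (c : Γ(PrinPart.nbhd f n, PrinPart.pr1 f n ⁻¹ᵁ U)) (t : Γ(F, U)) :
    (show Γ(PrinPart.PMod f n F, U) from
      c • (show Γ((Scheme.Modules.pullback (PrinPart.pr2 f n)).obj F, PrinPart.pr1 f n ⁻¹ᵁ U) from
        PrinPart.dP f n F U t)) ∈ spanDP f n F U := by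
  letI := (f.appLE V U hUV).hom.toAlgebra
  obtain ⟨y, rfl⟩ := (nbhdHom_chart f n hUV hU hV).1 c
  induction y using TensorProduct.induction_on with
  | zero => rw [map_zero, zero_smul]; exact Submodule.zero_mem _
  | add x y hx hy => rw [map_add, add_smul]; exact Submodule.add_mem _ hx hy
  | tmul a b =>
    rw [nbhdHom_tmul, mul_smul, ← dP_smul]
    exact Submodule.smul_mem _ a (Submodule.subset_span ⟨b • t, rfl⟩)

/-- Every section of principal parts lies locally in the span of the image of the universal operator. -/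
theorem exists_mres_mem_spanDP {U : X.Opens} (m : Γ(PrinPart.PMod f n F, U)) {x : X} (hx : x ∈ U) :
    ∃ (O : X.Opens) (h : O ≤ U), x ∈ O ∧ M1.mres (PrinPart.PMod f n F) h m ∈ spanDP f n F O := by
  let p := PrinPart.pr1 f n
  let q := PrinPart.pr2 f n
  let N := (Scheme.Modules.pullback q).obj F
  let z := PrinPart.toNbhd f n x
  have hz : ∀ {O : X.Opens}, x ∈ O → z ∈ p ⁻¹ᵁ O := fun {O} h => by
    show p z ∈ O
    rwa [toNbhd_pr1_apply]
  have P : ∀ u : (N.presheaf.stalk z : Type u), ∃ (O : X.Opens) (hO : x ∈ O) (m' : Γ(PrinPart.PMod f n F, O)),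
      m' ∈ spanDP f n F O ∧ N.presheaf.germ (p ⁻¹ᵁ O) z (hz hO) m' = u := by
    intro u
    obtain ⟨w, rfl⟩ := (M2.pullStalkEquiv q z F).surjective u
    induction w using TensorProduct.induction_on with
    | zero => exact ⟨⊤, trivial, 0, Submodule.zero_mem _, (map_zero _).trans (map_zero _).symm⟩
    | add a b ha hb =>
      obtain ⟨O, hO, ma, hma, ea⟩ := ha
      obtain ⟨O', hO', mb, hmb, eb⟩ := hb
      refine ⟨O ⊓ O', ⟨hO, hO'⟩, M1.mres (PrinPart.PMod f n F) inf_le_left ma +
        M1.mres (PrinPart.PMod f n F) inf_le_right mb,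
        Submodule.add_mem _ (mres_mem_spanDP f n F _ hma) (mres_mem_spanDP f n F _ hmb), ?_⟩
      refine Eq.trans ?_ ((map_add (M2.pullStalkEquiv q z F) a b).trans (congrArg₂ (· + ·) ea.symm eb.symm)).symm
      refine (map_add (N.presheaf.germ _ z _).hom _ _).trans (congrArg₂ (· + ·) ?_ ?_)
      · exact TopCat.Presheaf.germ_res_apply N.presheaf (homOfLE (p.preimage_mono inf_le_left)) z (hz ⟨hO, hO'⟩) ma
      · exact TopCat.Presheaf.germ_res_apply N.presheaf (homOfLE (p.preimage_mono inf_le_right)) z (hz ⟨hO, hO'⟩) mb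
    | tmul c s =>
      obtain ⟨T, hzT, t, rfl⟩ := F.presheaf.exists_germ_eq s
      obtain ⟨W, hzW, c', rfl⟩ := (PrinPart.nbhd f n).presheaf.exists_germ_eq c
      have hxT : x ∈ T := by rwa [toNbhd_pr2_apply] at hzT
      obtain ⟨V, hV, hxV, -⟩ := exists_isAffineOpen_mem_and_subset (X := S) (x := f x) (U := ⊤) trivial
      obtain ⟨O, hO, hxO, hle⟩ := exists_isAffineOpen_mem_and_subset (X := X) (x := x)
        (U := f ⁻¹ᵁ V ⊓ T ⊓ PrinPart.toNbhd f n ⁻¹ᵁ W) ⟨⟨hxV, hxT⟩, hzW⟩
      have hOV : O ≤ f ⁻¹ᵁ V := fun y hy => (hle hy).1.1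
      have hOT : O ≤ T := fun y hy => (hle hy).1.2
      have hOW : p ⁻¹ᵁ O ≤ W := by
        intro y hy
        have : PrinPart.toNbhd f n (p y) ∈ W := (hle hy).2
        rwa [pr1_toNbhd_apply] at this
      refine ⟨O, hxO, _, smul_dP_mem f n F hO hV hOV ((PrinPart.nbhd f n).presheaf.map (homOfLE hOW).op c')
        (F.presheaf.map (homOfLE hOT).op t), ?_⟩
      rw [show ((PrinPart.nbhd f n).presheaf.germ W z hzW c') ⊗ₜ[X.presheaf.stalk (q z)] F.presheaf.germ T (q z) hzT t =
        (PrinPart.nbhd f n).presheaf.germ W z hzW c' •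
          (((1 : (PrinPart.nbhd f n).presheaf.stalk z) ⊗ₜ[X.presheaf.stalk (q z)] F.presheaf.germ T (q z) hzT t) :
            M2.BC q z F) by rw [TensorProduct.smul_tmul', smul_eq_mul, mul_one]]
      rw [← TopCat.Presheaf.germ_res_apply F.presheaf (homOfLE hOT) (q z)
        (by rwa [toNbhd_pr2_apply]) t]
      refine Eq.trans ?_ ((map_smul (M2.pullStalkEquiv q z F) _ _).trans
        (congrArg (_ • ·) (M2.pullStalkEquiv_tmul q z F _ _))).symm
      refine (M1.germ_smul N (hz hxO) _ _).trans (congrArg₂ (· • ·) ?_ ?_)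
      · exact TopCat.Presheaf.germ_res_apply _ (homOfLE hOW) z (hz hxO) c'
      · exact TopCat.Presheaf.germ_res_apply N.presheaf (homOfLE (le_pr2 f n O)) z (hz hxO) _
  obtain ⟨O, hO, m', hm', e⟩ := P (N.presheaf.germ (p ⁻¹ᵁ U) z (hz hx) m)
  obtain ⟨W, hzW, hWl, hWr, heq⟩ := N.presheaf.germ_eq z (hz hO) (hz hx) _ _ e
  refine ⟨U ⊓ O ⊓ PrinPart.toNbhd f n ⁻¹ᵁ W, inf_le_left.trans inf_le_left, ⟨⟨hx, hO⟩, hzW⟩, ?_⟩
  have hh := mres_mem_spanDP f n F (U' := U ⊓ O ⊓ PrinPart.toNbhd f n ⁻¹ᵁ W) (inf_le_left.trans inf_le_right) hm'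
  convert hh using 1
  have hW' : p ⁻¹ᵁ (U ⊓ O ⊓ PrinPart.toNbhd f n ⁻¹ᵁ W) ≤ W := by
    intro y hy
    have : PrinPart.toNbhd f n (p y) ∈ W := hy.2
    rwa [pr1_toNbhd_apply] at this
  have h2 := congrArg (M1.mres N hW') heq
  exact (M1.mres_mres N _ hW' _).symm.trans (h2.symm.trans (M1.mres_mres N _ hW' _))

/-- Maps out of principal parts are determined on the image of the universal operator. -/
theorem hom_ext_dP {G : X.Modules} {a b : PrinPart.PMod f n F ⟶ G}
    (h : ∀ (U : X.Opens) (t : Γ(F, U)), a.app U (PrinPart.dP f n F U t) = b.app U (PrinPart.dP f n F U t)) :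
    a = b := by
  refine Scheme.Modules.hom_ext _ _ fun U => ?_
  ext m
  refine M1.section_ext _ _ fun x hx => ?_
  obtain ⟨O, hle, hxO, hmem⟩ := exists_mres_mem_spanDP f n F m hx
  rw [← M1.germ_mres G hle hxO, ← M1.germ_mres G hle hxO, ← M1.app_mres, ← M1.app_mres]
  refine congrArg _ ?_
  show a.app O (M1.mres (PrinPart.PMod f n F) hle m) = b.app O (M1.mres (PrinPart.PMod f n F) hle m)
  generalize M1.mres (PrinPart.PMod f n F) hle m = w at hmem ⊢
  induction hmem using Submodule.span_induction with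
  | mem y hy =>
    obtain ⟨t, rfl⟩ := hy
    exact h O t
  | zero => simp
  | add y y' _ _ hy hy' => rw [map_add, map_add, hy, hy']
  | smul r y _ hy => rw [Scheme.Modules.Hom.app_smul, Scheme.Modules.Hom.app_smul, hy]

end Groth.Agent.PP12
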