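import Mathlib.RingTheory.Kaehler.Basic

/-!
# Differential operators of bounded order between modules, by commutators
-/

set_option autoImplicit false

universe u v w

open TensorProduct

namespace Groth.Agent.PP12

variable {B : Type u} [CommRing B] {M N P : Type v} [AddCommGroup M] [Module B M] [AddCommGroup N] [Module B N]
  [AddCommGroup P] [Module B P]

/-- `E (a • t) - a • E t`. -/
def comm (a : B) (E : M →+ N) : M →+ N where
  toFun t := E (a • t) - a • E t
  map_zero' := by simp
  map_add' s t := by simp only [smul_add, map_add]; abel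

theorem comm_apply (a : B) (E : M →+ N) (t : M) : comm a E t = E (a • t) - a • E t := rfl

/-- Order at most `n`. -/
def Ord : ℕ → (M →+ N) → Prop
  | 0, E => ∀ a : B, comm a E = 0
  | n + 1, E => ∀ a : B, Ord n (comm a E)

theorem comm_add (a : B) (E E' : M →+ N) : comm a (E + E') = comm a E + comm a E' := by
  ext t; simp only [comm_apply, AddMonoidHom.add_apply, smul_add]; abel

theorem comm_zero (a : B) : comm a (0 : M →+ N) = 0 := by
  ext t; simp [comm_apply]

theorem comm_comp (a : B) (E : M →+ N) (E' : N →+ P) :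
    comm a (E'.comp E) = (comm a E').comp E + E'.comp (comm a E) := by
  ext t; simp only [comm_apply, AddMonoidHom.add_apply, AddMonoidHom.comp_apply, map_sub]; abel

theorem ord_zero (n : ℕ) : Ord (B := B) n (0 : M →+ N) := by
  induction n with
  | zero => exact fun a => comm_zero a
  | succ n ih => intro a; rw [comm_zero]; exact ih

theorem ord_succ {n : ℕ} {E : M →+ N} (h : Ord (B := B) n E) : Ord (B := B) (n + 1) E := by
  induction n generalizing E with
  | zero => intro a b; rw [h a]; exact comm_zero b
  | succ n ih => exact fun a => ih (h a)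

theorem ord_mono {n m : ℕ} (hnm : n ≤ m) {E : M →+ N} (h : Ord (B := B) n E) : Ord (B := B) m E := by
  induction hnm with
  | refl => exact h
  | step _ ih => exact ord_succ ih

theorem ord_add {n : ℕ} {E E' : M →+ N} (h : Ord (B := B) n E) (h' : Ord (B := B) n E') :
    Ord (B := B) n (E + E') := by
  induction n generalizing E E' with
  | zero => intro a; rw [comm_add, h a, h' a, add_zero]
  | succ n ih => intro a; rw [comm_add]; exact ih (h a) (h' a)

theorem ord_comp : ∀ {n n' : ℕ} {E : M →+ N} {E' : N →+ P}, Ord (B := B) n E → Ord (B := B) n' E' →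
    Ord (B := B) (n + n') (E'.comp E)
  | 0, 0, E, E', h, h' => fun a => by
    rw [comm_comp, h a, h' a]; simp
  | 0, n' + 1, E, E', h, h' => fun a => by
    show Ord (B := B) (0 + n') (comm a (E'.comp E))
    rw [comm_comp, h a]
    refine ord_add (ord_comp h (h' a)) ?_
    simpa using ord_zero (B := B) (M := M) (N := P) n'
  | n + 1, 0, E, E', h, h' => fun a => by
    show Ord (B := B) (n + 0) (comm a (E'.comp E))
    rw [comm_comp, h' a]
    refine ord_add ?_ (ord_comp (h a) h')
    simpa using ord_zero (B := B) (M := M) (N := P) n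
  | n + 1, n' + 1, E, E', h, h' => fun a => by
    show Ord (B := B) (n + 1 + n') (comm a (E'.comp E))
    rw [comm_comp]
    refine ord_add (ord_comp h (h' a)) ?_
    have := ord_comp (h a) h'
    rwa [show n + 1 + n' = n + (n' + 1) by omega]
  termination_by n n' => (n + n')

variable (A : Type u) [CommRing A] [Algebra A B]

/-- Base linearity. -/
def BaseLin (E : M →+ N) : Prop := ∀ (s : A) (t : M), E (algebraMap A B s • t) = algebraMap A B s • E t

variable {A}

/-- The linearisation `a ⊗ b ↦ (t ↦ a • E (b • t))`. -/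
noncomputable def linAdd {E : M →+ N} (h : BaseLin (B := B) A E) : B ⊗[A] B →+ (M →+ N) :=
  TensorProduct.liftAddHom
    { toFun := fun a =>
        { toFun := fun b =>
            { toFun := fun t => a • E (b • t)
              map_zero' := by simp
              map_add' := fun s t => by simp [smul_add] }
          map_zero' := by ext t; simp
          map_add' := fun b b' => by ext t; simp [add_smul, smul_add] }
      map_zero' := by ext b t; simp
      map_add' := fun a a' => by ext b t; simp [add_smul] }
    (fun s a b => by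
      ext t
      show (s • a) • E (b • t) = a • E ((s • b) • t)
      rw [Algebra.smul_def, Algebra.smul_def, mul_smul (algebraMap A B s) b t, h, smul_smul, mul_comm])

theorem linAdd_tmul {E : M →+ N} (h : BaseLin (B := B) A E) (a b : B) (t : M) :
    linAdd h (a ⊗ₜ b) t = a • E (b • t) := rfl

theorem linAdd_one {E : M →+ N} (h : BaseLin (B := B) A E) : linAdd h 1 = E := by
  ext t; rw [Algebra.TensorProduct.one_def, linAdd_tmul, one_smul, one_smul]

theorem linAdd_mul_tmul {E : M →+ N} (h : BaseLin (B := B) A E) (z : B ⊗[A] B) (c d : B) (t : M) :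
    linAdd h (z * (c ⊗ₜ d)) t = c • linAdd h z (d • t) := by
  induction z using TensorProduct.induction_on with
  | zero => simp
  | add x y hx hy => simp only [add_mul, map_add, AddMonoidHom.add_apply, hx, hy, smul_add]
  | tmul a b =>
    rw [Algebra.TensorProduct.tmul_mul_tmul, linAdd_tmul, linAdd_tmul, mul_smul b d t, mul_comm a c, mul_smul c a]

theorem linAdd_mul_eq_zero {E : M →+ N} (h : BaseLin (B := B) A E) {z : B ⊗[A] B} (hz : linAdd h z = 0)
    (w : B ⊗[A] B) : linAdd h (z * w) = 0 := by
  induction w using TensorProduct.induction_on with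
  | zero => simp
  | add x y hx hy => rw [mul_add, map_add, hx, hy, add_zero]
  | tmul c d => ext t; rw [linAdd_mul_tmul, hz]; simp

theorem linAdd_mul_delta {E : M →+ N} (h : BaseLin (B := B) A E) (z : B ⊗[A] B) (a : B) :
    linAdd h (z * (1 ⊗ₜ a - a ⊗ₜ 1)) = comm a (linAdd h z) := by
  ext t
  rw [mul_sub, map_sub, AddMonoidHom.sub_apply, linAdd_mul_tmul, linAdd_mul_tmul, one_smul, one_smul, comm_apply]

theorem ord_linAdd_iff {E : M →+ N} (h : BaseLin (B := B) A E) : ∀ (n : ℕ) (z : B ⊗[A] B),
    Ord (B := B) n (linAdd h z) ↔ ∀ w ∈ KaehlerDifferential.ideal A B ^ (n + 1), linAdd h (z * w) = 0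
  | 0, z => by
    rw [pow_one]
    constructor
    · intro hz w hw
      rw [← KaehlerDifferential.span_range_eq_ideal] at hw
      induction hw using Submodule.span_induction with
      | mem y hy =>
        obtain ⟨a, rfl⟩ := hy
        dsimp only
        rw [linAdd_mul_delta]; exact hz a
      | zero => simp
      | add x y _ _ hx hy => rw [mul_add, map_add, hx, hy, add_zero]
      | smul r y _ hy =>
        rw [smul_eq_mul, mul_left_comm, mul_comm]
        exact linAdd_mul_eq_zero h hy r
    · intro hz a
      rw [← linAdd_mul_delta]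
      exact hz _ (KaehlerDifferential.one_smul_sub_smul_one_mem_ideal A a)
  | n + 1, z => by
    constructor
    · intro hz w hw
      rw [pow_succ'] at hw
      induction hw using Submodule.mul_induction_on' with
      | mem_mul_mem i hi j hj =>
        rw [← KaehlerDifferential.span_range_eq_ideal] at hi
        induction hi using Submodule.span_induction with
        | mem y hy =>
          obtain ⟨a, rfl⟩ := hy
          rw [← mul_assoc]
          refine (ord_linAdd_iff h n _).1 ?_ j hj
          rw [linAdd_mul_delta]; exact hz a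
        | zero => simp
        | add x y _ _ hx hy => rw [add_mul, mul_add, map_add, hx, hy, add_zero]
        | smul r y _ hy =>
          rw [smul_eq_mul, show z * (r * y * j) = z * (y * j) * r by ring]
          exact linAdd_mul_eq_zero h hy r
      | add x _ y _ hx hy => rw [mul_add, map_add, hx, hy, add_zero]
    · intro hz a
      rw [← linAdd_mul_delta]
      refine (ord_linAdd_iff h n _).2 fun w hw => ?_
      rw [mul_assoc]
      refine hz _ ?_
      rw [pow_succ']
      exact Ideal.mul_mem_mul (KaehlerDifferential.one_smul_sub_smul_one_mem_ideal A a) hw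

theorem ord_iff {E : M →+ N} (h : BaseLin (B := B) A E) (n : ℕ) :
    Ord (B := B) n E ↔ ∀ w ∈ KaehlerDifferential.ideal A B ^ (n + 1), linAdd h w = 0 := by
  have := ord_linAdd_iff h n 1
  simp only [linAdd_one, one_mul] at this
  exact this

theorem linAdd_prod_delta {E : M →+ N} (h : BaseLin (B := B) A E) {ι : Type w} [Fintype ι] [DecidableEq ι]
    (a : ι → B) (t : M) :
    linAdd h (∏ i, ((1 : B) ⊗ₜ a i - a i ⊗ₜ (1 : B))) t =
      ∑ H : Finset ι, ((-1 : ℤ) ^ H.card) • ((∏ i ∈ H, a i) • E ((∏ i ∈ Hᶜ, a i) • t)) := by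
  have hR : ∀ s : Finset ι, (∏ i ∈ s, (1 : B) ⊗ₜ[A] a i) = (1 : B) ⊗ₜ (∏ i ∈ s, a i) := fun s =>
    (map_prod (Algebra.TensorProduct.includeRight : B →ₐ[A] B ⊗[A] B) a s).symm
  have hL : ∀ s : Finset ι, (∏ i ∈ s, a i ⊗ₜ[A] (1 : B)) = (∏ i ∈ s, a i) ⊗ₜ (1 : B) := fun s =>
    (map_prod (Algebra.TensorProduct.includeLeft : B →ₐ[B] B ⊗[A] B) a s).symm
  simp only [sub_eq_neg_add]
  rw [Finset.prod_add, map_sum, AddMonoidHom.finsetSum_apply]
  refine Finset.sum_congr (Finset.powerset_univ) fun H _ => ?_
  rw [Finset.prod_neg, hR, hL, mul_assoc, Algebra.TensorProduct.tmul_mul_tmul, mul_one, one_mul,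
    ← Finset.compl_eq_univ_sdiff]
  rw [show ∀ x : B ⊗[A] B, (-1 : B ⊗[A] B) ^ H.card * x = ((-1 : ℤ) ^ H.card) • x from fun x => by
    rw [zsmul_eq_mul]; push_cast; ring, map_zsmul]
  rfl

theorem ord_of_prod_delta {E : M →+ N} (h : BaseLin (B := B) A E) (n : ℕ)
    (H : ∀ (a : Fin (n + 1) → B), linAdd h (∏ i, ((1 : B) ⊗ₜ a i - a i ⊗ₜ (1 : B))) = 0) : Ord (B := B) n E := by
  suffices key : ∀ (n : ℕ) (z : B ⊗[A] B),
      (∀ a : Fin (n + 1) → B, linAdd h (z * ∏ i, ((1 : B) ⊗ₜ a i - a i ⊗ₜ (1 : B))) = 0) →
      Ord (B := B) n (linAdd h z) by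
    have := key n 1 (fun a => by rw [one_mul]; exact H a)
    rwa [linAdd_one] at this
  intro n
  induction n with
  | zero => intro z hz a; rw [← linAdd_mul_delta]; simpa using hz fun _ => a
  | succ n ih =>
    intro z hz a
    rw [← linAdd_mul_delta]
    refine ih _ fun b => ?_
    have := hz (Fin.cons a b)
    rwa [Fin.prod_univ_succ, Fin.cons_zero, ← mul_assoc] at this

theorem prod_delta_of_ord {E : M →+ N} (h : BaseLin (B := B) A E) (n : ℕ) (hE : Ord (B := B) n E)
    (a : Fin (n + 1) → B) : linAdd h (∏ i, ((1 : B) ⊗ₜ a i - a i ⊗ₜ (1 : B))) = 0 := by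
  refine (ord_iff h n).1 hE _ ?_
  have := Ideal.prod_mem_prod (s := Finset.univ) (I := fun _ : Fin (n + 1) => KaehlerDifferential.ideal A B)
    (x := fun i => (1 : B) ⊗ₜ a i - a i ⊗ₜ (1 : B)) fun i _ => KaehlerDifferential.one_smul_sub_smul_one_mem_ideal A (a i)
  rwa [Finset.prod_const, Finset.card_univ, Fintype.card_fin] at this

end Groth.Agent.PP12
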