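import Groth.Agent.Lib.PP12.Gen
import Groth.Agent.Lib.PP12.Ord

/-!
# The universal property of principal parts

`isDiffOpLE_iff`: an additive map of sheaves is a differential operator of order at most `n` iff it is linear over
the base and has order at most `n`, in the sense of commutators, on every chart.
-/

set_option autoImplicit false
set_option backward.isDefEq.respectTransparency false
set_option backward.isDefEq.respectTransparency.types false
set_option linter.style.haveILetI false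

universe u

open CategoryTheory CategoryTheory.Limits AlgebraicGeometry TopologicalSpace Opposite TensorProduct

namespace Groth.Agent.PP12

variable {X S : Scheme.{u}} (f : X ⟶ S) {F G : X.Modules} (D : F.presheaf ⟶ G.presheaf)

/-- `D` on sections. -/
noncomputable abbrev appHom (U : X.Opens) : Γ(F, U) →+ Γ(G, U) := (D.app (op U)).hom

theorem appHom_mres {U W : X.Opens} (h : W ≤ U) (t : Γ(F, U)) :
    appHom D W (M1.mres F h t) = M1.mres G h (appHom D U t) :=
  ConcreteCategory.congr_hom (D.naturality (homOfLE h).op) t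

/-- Linearity over the functions pulled back from the base. -/
def IsBaseLin : Prop :=
  ∀ (V : S.Opens) (s : Γ(S, V)) (U : X.Opens) (hU : U ≤ f ⁻¹ᵁ V) (t : Γ(F, U)),
    D.app (op U) (X.presheaf.map (homOfLE hU).op (f.app V s) • t) =
      X.presheaf.map (homOfLE hU).op (f.app V s) • D.app (op U) t

/-- `D` is linear over the base and of order at most `n` on every chart. -/
def IsDOp (n : ℕ) : Prop :=
  IsBaseLin f D ∧ ∀ (U : X.Opens) (V : S.Opens), IsAffineOpen U → IsAffineOpen V → U ≤ f ⁻¹ᵁ V →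
    Ord (B := Γ(X, U)) n (appHom D U)

theorem baseLin_appHom (hlin : IsBaseLin f D) {U : X.Opens} {V : S.Opens} (hUV : U ≤ f ⁻¹ᵁ V) :
    letI := (f.appLE V U hUV).hom.toAlgebra
    BaseLin (B := Γ(X, U)) Γ(S, V) (appHom D U) :=
  fun s t => hlin V s U hUV t

/-- `D` on stalks. -/
noncomputable def stalkHom (y : X) : (F.presheaf.stalk y : Type u) →+ (G.presheaf.stalk y : Type u) :=
  ((TopCat.Presheaf.stalkFunctor AddCommGrpCat.{u} y).map D).hom

theorem stalkHom_germ {U : X.Opens} {y : X} (hy : y ∈ U) (t : Γ(F, U)) :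
    stalkHom D y (F.presheaf.germ U y hy t) = G.presheaf.germ U y hy (appHom D U t) :=
  TopCat.Presheaf.stalkFunctor_map_germ_apply U y hy D t

theorem baseLin_stalkHom (hlin : IsBaseLin f D) {U : X.Opens} {V : S.Opens} (hUV : U ≤ f ⁻¹ᵁ V) {y : X} (hy : y ∈ U) :
    letI := (f.appLE V U hUV).hom.toAlgebra
    letI := M1.stalkModule F hy
    letI := M1.stalkModule G hy
    BaseLin (B := Γ(X, U)) Γ(S, V) (stalkHom D y) := by
  letI := (f.appLE V U hUV).hom.toAlgebra
  letI := M1.stalkModule F hy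
  letI := M1.stalkModule G hy
  intro s m
  obtain ⟨W, hW, t, rfl⟩ := F.presheaf.exists_germ_eq m
  have hO : y ∈ U ⊓ W := ⟨hy, hW⟩
  rw [← M1.germ_mres F (inf_le_right : U ⊓ W ≤ W) hO t]
  generalize M1.mres F (inf_le_right : U ⊓ W ≤ W) t = t'
  have hres : X.presheaf.germ U y hy (f.appLE V U hUV s) = X.presheaf.germ (U ⊓ W) y hO
      (X.presheaf.map (homOfLE ((inf_le_left : U ⊓ W ≤ U).trans hUV)).op (f.app V s)) := by
    rw [Scheme.Hom.appLE, CommRingCat.comp_apply, TopCat.Presheaf.germ_res_apply, TopCat.Presheaf.germ_res_apply]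
  show stalkHom D y (X.presheaf.germ U y hy (f.appLE V U hUV s) • _) =
    X.presheaf.germ U y hy (f.appLE V U hUV s) • stalkHom D y _
  rw [hres, ← M1.germ_smul, stalkHom_germ, stalkHom_germ, ← M1.germ_smul]
  exact congrArg _ (hlin V s _ _ t')

variable (hlin : IsBaseLin f D)

/-- The linearisation on stalks. -/
noncomputable def lamU {U : X.Opens} {V : S.Opens} (hUV : U ≤ f ⁻¹ᵁ V) {y : X} (hy : y ∈ U) :
    letI := (f.appLE V U hUV).hom.toAlgebra
    Γ(X, U) ⊗[Γ(S, V)] Γ(X, U) →+ ((F.presheaf.stalk y : Type u) →+ (G.presheaf.stalk y : Type u)) :=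
  letI := (f.appLE V U hUV).hom.toAlgebra
  letI := M1.stalkModule F hy
  letI := M1.stalkModule G hy
  linAdd (baseLin_stalkHom f D hlin hUV hy)

theorem lamU_tmul {U : X.Opens} {V : S.Opens} (hUV : U ≤ f ⁻¹ᵁ V) {y : X} (hy : y ∈ U) (a b : Γ(X, U))
    (m : (F.presheaf.stalk y : Type u)) :
    letI := (f.appLE V U hUV).hom.toAlgebra
    lamU f D hlin hUV hy (a ⊗ₜ b) m =
      X.presheaf.germ U y hy a • (stalkHom D y (X.presheaf.germ U y hy b • m) : (G.presheaf.stalk y : Type u)) := rfl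

theorem lamU_germ {U : X.Opens} {V : S.Opens} (hUV : U ≤ f ⁻¹ᵁ V) {y : X} (hy : y ∈ U) (t : Γ(F, U)) :
    letI := (f.appLE V U hUV).hom.toAlgebra
    ∀ z : Γ(X, U) ⊗[Γ(S, V)] Γ(X, U), lamU f D hlin hUV hy z (F.presheaf.germ U y hy t) =
      G.presheaf.germ U y hy (linAdd (baseLin_appHom f D hlin hUV) z t) := by
  letI := (f.appLE V U hUV).hom.toAlgebra
  intro z
  induction z using TensorProduct.induction_on with
  | zero => simp only [map_zero, AddMonoidHom.zero_apply]
  | add x x' hx hx' => simp only [map_add, AddMonoidHom.add_apply, hx, hx']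
  | tmul a b =>
    rw [lamU_tmul, ← M1.germ_smul, stalkHom_germ, ← M1.germ_smul, linAdd_tmul]

variable (n : ℕ)

/-- Restriction of a linearisation to a smaller chart. -/
theorem exists_res {U : X.Opens} {V : S.Opens} (hUV : U ≤ f ⁻¹ᵁ V) {U' : X.Opens} {V' : S.Opens}
    (hUV' : U' ≤ f ⁻¹ᵁ V') (hle : U' ≤ U) {y : X} (hy : y ∈ U') :
    letI := (f.appLE V U hUV).hom.toAlgebra
    ∀ w : Γ(X, U) ⊗[Γ(S, V)] Γ(X, U),
      letI := (f.appLE V' U' hUV').hom.toAlgebra
      ∃ w' : Γ(X, U') ⊗[Γ(S, V')] Γ(X, U'),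
        nbhdHom f n hUV' w' = (PrinPart.nbhd f n).presheaf.map
            (homOfLE ((PrinPart.pr1 f n).preimage_mono hle)).op (nbhdHom f n hUV w) ∧
          lamU f D hlin hUV' hy w' = lamU f D hlin hUV (hle hy) w := by
  letI := (f.appLE V U hUV).hom.toAlgebra
  intro w
  letI := (f.appLE V' U' hUV').hom.toAlgebra
  induction w using TensorProduct.induction_on with
  | zero => exact ⟨0, by simp only [map_zero], by simp only [map_zero]⟩
  | add x x' hx hx' =>
    obtain ⟨a, ha, ha'⟩ := hx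
    obtain ⟨b, hb, hb'⟩ := hx'
    exact ⟨a + b, by simp only [map_add, ha, hb], by simp only [map_add, ha', hb']⟩
  | tmul a b =>
    refine ⟨X.presheaf.map (homOfLE hle).op a ⊗ₜ X.presheaf.map (homOfLE hle).op b, ?_, ?_⟩
    · rw [nbhdHom_tmul, nbhdHom_tmul, map_mul]
      congr 1
      · exact ConcreteCategory.congr_hom ((PrinPart.pr1 f n).naturality (homOfLE hle).op) a
      · have h1 := ConcreteCategory.congr_hom ((PrinPart.pr2 f n).naturality (homOfLE hle).op) b
        simp only [CommRingCat.comp_apply] at h1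
        rw [h1]
        simp only [← CommRingCat.comp_apply, ← Functor.map_comp, Category.assoc]
        rfl
    · ext m
      rw [lamU_tmul, lamU_tmul, TopCat.Presheaf.germ_res_apply, TopCat.Presheaf.germ_res_apply]

variable {f D}
variable (hord : ∀ (U : X.Opens) (V : S.Opens), IsAffineOpen U → IsAffineOpen V → U ≤ f ⁻¹ᵁ V →
    Ord (B := Γ(X, U)) n (appHom D U))

include hord in
theorem lamU_eq_zero {U : X.Opens} {V : S.Opens} (hV : IsAffineOpen V)
    (hUV : U ≤ f ⁻¹ᵁ V) {y : X} (hy : y ∈ U) :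
    letI := (f.appLE V U hUV).hom.toAlgebra
    ∀ w : Γ(X, U) ⊗[Γ(S, V)] Γ(X, U), nbhdHom f n hUV w = 0 → lamU f D hlin hUV hy w = 0 := by
  letI := (f.appLE V U hUV).hom.toAlgebra
  intro w hw
  refine AddMonoidHom.ext fun m => ?_
  obtain ⟨W, hyW, t, rfl⟩ := F.presheaf.exists_germ_eq m
  obtain ⟨U', hU', hyU', hle⟩ := exists_isAffineOpen_mem_and_subset (X := X) (x := y) (U := U ⊓ W) ⟨hy, hyW⟩
  have hUV' : U' ≤ f ⁻¹ᵁ V := fun x hx => hUV (hle hx).1
  obtain ⟨w', hw', hl⟩ := exists_res f D hlin n hUV hUV' (fun x hx => (hle hx).1) hyU' w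
  letI := (f.appLE V U' hUV').hom.toAlgebra
  rw [hw, map_zero] at hw'
  have hmem : w' ∈ KaehlerDifferential.ideal Γ(S, V) Γ(X, U') ^ (n + 1) := by
    rw [← (nbhdHom_chart f n hUV' hU' hV).2]; exact hw'
  have h0 := (ord_iff (baseLin_appHom f D hlin hUV') n).1 (hord U' V hU' hV hUV') w' hmem
  rw [← hl, ← M1.germ_mres F (fun x hx => (hle hx).2 : U' ≤ W) hyU' t, lamU_germ, h0]
  simp

/-- `φ` is the operator attached to the germ `c`. -/
def Rep (z : PrinPart.nbhd f n) (c : (PrinPart.nbhd f n).presheaf.stalk z)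
    (φ : (F.presheaf.stalk (PrinPart.pr2 f n z) : Type u) →+ (G.presheaf.stalk (PrinPart.pr2 f n z) : Type u)) :
    Prop :=
  ∃ (U : X.Opens) (_ : IsAffineOpen U) (V : S.Opens) (_ : IsAffineOpen V) (hUV : U ≤ f ⁻¹ᵁ V)
    (hy : PrinPart.pr2 f n z ∈ U),
    letI := (f.appLE V U hUV).hom.toAlgebra
    ∃ w : Γ(X, U) ⊗[Γ(S, V)] Γ(X, U),
      (PrinPart.nbhd f n).presheaf.germ (PrinPart.pr1 f n ⁻¹ᵁ U) z
          (show PrinPart.pr1 f n z ∈ U by rw [PrinPart.pr1_apply]; exact hy) (nbhdHom f n hUV w) = c ∧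
        lamU f D hlin hUV hy w = φ

theorem exists_small (z : PrinPart.nbhd f n) (W : (PrinPart.nbhd f n).Opens) (hz : z ∈ W) (O : X.Opens)
    (hO : PrinPart.pr2 f n z ∈ O) :
    ∃ (U : X.Opens) (_ : IsAffineOpen U) (V : S.Opens) (_ : IsAffineOpen V) (_ : U ≤ f ⁻¹ᵁ V),
      PrinPart.pr2 f n z ∈ U ∧ U ≤ O ∧ PrinPart.pr1 f n ⁻¹ᵁ U ≤ W := by
  obtain ⟨V, hV, hyV, -⟩ := exists_isAffineOpen_mem_and_subset (X := S) (x := f (PrinPart.pr2 f n z)) (U := ⊤) trivial
  have hzW : PrinPart.toNbhd f n (PrinPart.pr2 f n z) ∈ W := by rwa [← PrinPart.pr1_apply, pr1_toNbhd_apply]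
  obtain ⟨U, hU, hyU, hle⟩ := exists_isAffineOpen_mem_and_subset (X := X) (x := PrinPart.pr2 f n z)
    (U := f ⁻¹ᵁ V ⊓ O ⊓ PrinPart.toNbhd f n ⁻¹ᵁ W) ⟨⟨hyV, hO⟩, hzW⟩
  refine ⟨U, hU, V, hV, fun x hx => (hle hx).1.1, hyU, fun x hx => (hle hx).1.2, fun x hx => ?_⟩
  have := (hle hx).2
  simp only [SetLike.mem_coe, Scheme.Hom.mem_preimage] at this
  rwa [pr1_toNbhd_apply] at this

theorem exists_rep (z : PrinPart.nbhd f n) (c : (PrinPart.nbhd f n).presheaf.stalk z) :
    ∃ φ, Rep (D := D) hlin n z c φ := by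
  obtain ⟨W, hz, c', rfl⟩ := (PrinPart.nbhd f n).presheaf.exists_germ_eq c
  obtain ⟨U, hU, V, hV, hUV, hy, -, hW⟩ := exists_small n z W hz ⊤ trivial
  letI := (f.appLE V U hUV).hom.toAlgebra
  obtain ⟨w, hw⟩ := (nbhdHom_chart f n hUV hU hV).1 ((PrinPart.nbhd f n).presheaf.map (homOfLE hW).op c')
  refine ⟨_, U, hU, V, hV, hUV, hy, w, ?_, rfl⟩
  rw [hw, TopCat.Presheaf.germ_res_apply]

include hord in
theorem rep_unique {z : PrinPart.nbhd f n} {c : (PrinPart.nbhd f n).presheaf.stalk z} {φ φ'}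
    (h : Rep (D := D) hlin n z c φ) (h' : Rep (D := D) hlin n z c φ') : φ = φ' := by
  obtain ⟨U₁, hU₁, V₁, hV₁, hUV₁, hy₁, w₁, e₁, rfl⟩ := h
  obtain ⟨U₂, hU₂, V₂, hV₂, hUV₂, hy₂, w₂, e₂, rfl⟩ := h'
  obtain ⟨W, hzW, hW₁, hW₂, heq⟩ := (PrinPart.nbhd f n).presheaf.germ_eq z _ _ _ _ (e₁.trans e₂.symm)
  obtain ⟨U, hU, V, hV, hUV, hy, hle, hW⟩ := exists_small n z W hzW (U₁ ⊓ U₂) ⟨hy₁, hy₂⟩
  obtain ⟨a, ha, ha'⟩ := exists_res f D hlin n hUV₁ hUV (fun x hx => (hle hx).1) hy w₁
  obtain ⟨b, hb, hb'⟩ := exists_res f D hlin n hUV₂ hUV (fun x hx => (hle hx).2) hy w₂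
  letI := (f.appLE V U hUV).hom.toAlgebra
  rw [← ha', ← hb', ← sub_eq_zero, ← map_sub]
  refine lamU_eq_zero hlin n hord hV hUV hy _ ?_
  rw [map_sub, sub_eq_zero, ha, hb]
  have h2 := congrArg ((PrinPart.nbhd f n).presheaf.map (homOfLE hW).op) heq
  simp only [← CommRingCat.comp_apply, ← Functor.map_comp] at h2
  exact h2



/-- The operator attached to a germ on the neighbourhood. -/
noncomputable def lam (z : PrinPart.nbhd f n) (c : (PrinPart.nbhd f n).presheaf.stalk z) :
    (F.presheaf.stalk (PrinPart.pr2 f n z) : Type u) →+ (G.presheaf.stalk (PrinPart.pr2 f n z) : Type u) :=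
  (exists_rep (D := D) hlin n z c).choose

include hord in
theorem lam_eq {z : PrinPart.nbhd f n} {c : (PrinPart.nbhd f n).presheaf.stalk z} {φ}
    (h : Rep (D := D) hlin n z c φ) : lam (D := D) hlin n z c = φ :=
  rep_unique hlin n hord (exists_rep (D := D) hlin n z c).choose_spec h

/-- A common chart for finitely many representatives. -/
theorem rep_res {z : PrinPart.nbhd f n} {c φ} (h : Rep (D := D) hlin n z c φ) :
    ∃ O : X.Opens, PrinPart.pr2 f n z ∈ O ∧ ∀ (U : X.Opens) (V : S.Opens) (hUV : U ≤ f ⁻¹ᵁ V), U ≤ O →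
      ∀ hy : PrinPart.pr2 f n z ∈ U,
      letI := (f.appLE V U hUV).hom.toAlgebra
      ∃ w : Γ(X, U) ⊗[Γ(S, V)] Γ(X, U),
        (PrinPart.nbhd f n).presheaf.germ (PrinPart.pr1 f n ⁻¹ᵁ U) z
            (show PrinPart.pr1 f n z ∈ U by rw [PrinPart.pr1_apply]; exact hy) (nbhdHom f n hUV w) = c ∧
          lamU f D hlin hUV hy w = φ := by
  obtain ⟨U₁, hU₁, V₁, hV₁, hUV₁, hy₁, w₁, e₁, rfl⟩ := h
  refine ⟨U₁, hy₁, fun U V hUV hle hy => ?_⟩
  obtain ⟨a, ha, ha'⟩ := exists_res f D hlin n hUV₁ hUV hle hy w₁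
  exact ⟨a, by rw [ha, TopCat.Presheaf.germ_res_apply, e₁], ha'⟩

include hord in
theorem lam_add (z : PrinPart.nbhd f n) (c c' : (PrinPart.nbhd f n).presheaf.stalk z) :
    lam (D := D) hlin n z (c + c') = lam hlin n z c + lam hlin n z c' := by
  obtain ⟨O, hO, h⟩ := rep_res hlin n (exists_rep (D := D) hlin n z c).choose_spec
  obtain ⟨O', hO', h'⟩ := rep_res hlin n (exists_rep (D := D) hlin n z c').choose_spec
  obtain ⟨U, hU, V, hV, hUV, hy, hle, -⟩ := exists_small n z ⊤ trivial (O ⊓ O') ⟨hO, hO'⟩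
  obtain ⟨w, hw, hl⟩ := h U V hUV (fun x hx => (hle hx).1) hy
  obtain ⟨w', hw', hl'⟩ := h' U V hUV (fun x hx => (hle hx).2) hy
  refine lam_eq hlin n hord ⟨U, hU, V, hV, hUV, hy, w + w', ?_, ?_⟩
  · rw [map_add, map_add, hw, hw']
  · rw [map_add, hl, hl']; rfl

include hord in
theorem lam_left (z : PrinPart.nbhd f n) (c : (PrinPart.nbhd f n).presheaf.stalk z) {O : X.Opens}
    (hy : PrinPart.pr2 f n z ∈ O) (r : Γ(X, O)) (m : (F.presheaf.stalk (PrinPart.pr2 f n z) : Type u)) :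
    lam (D := D) hlin n z ((PrinPart.nbhd f n).presheaf.germ (PrinPart.pr1 f n ⁻¹ᵁ O) z
        (show PrinPart.pr1 f n z ∈ O by rw [PrinPart.pr1_apply]; exact hy) ((PrinPart.pr1 f n).app O r) * c) m =
      X.presheaf.germ O _ hy r • (lam (D := D) hlin n z c m : (G.presheaf.stalk (PrinPart.pr2 f n z) : Type u)) := by
  obtain ⟨O', hO', h⟩ := rep_res hlin n (exists_rep (D := D) hlin n z c).choose_spec
  obtain ⟨U, hU, V, hV, hUV, hyU, hle, -⟩ := exists_small n z ⊤ trivial (O ⊓ O') ⟨hy, hO'⟩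
  letI := (f.appLE V U hUV).hom.toAlgebra
  letI := M1.stalkModule F hyU
  letI := M1.stalkModule G hyU
  obtain ⟨w, hw, hl⟩ := h U V hUV (fun x hx => (hle hx).2) hyU
  have hlO : U ≤ O := fun x hx => (hle hx).1
  rw [lam_eq hlin n hord ⟨U, hU, V, hV, hUV, hyU, w * (X.presheaf.map (homOfLE hlO).op r ⊗ₜ 1), ?_, rfl⟩,
    show lam (D := D) hlin n z c = lamU f D hlin hUV hyU w from hl.symm]
  · refine (linAdd_mul_tmul (baseLin_stalkHom f D hlin hUV hyU) w _ _ m).trans ?_
    rw [one_smul]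
    exact congrArg (fun c : X.presheaf.stalk (PrinPart.pr2 f n z) =>
      c • (lamU f D hlin hUV hyU w m : (G.presheaf.stalk (PrinPart.pr2 f n z) : Type u)))
      (TopCat.Presheaf.germ_res_apply X.presheaf (homOfLE hlO) _ hyU r)
  · rw [map_mul, map_mul, hw, mul_comm, nbhdHom_tmul, map_one, map_one, mul_one]
    congr 1
    rw [show (PrinPart.pr1 f n).app U (X.presheaf.map (homOfLE hlO).op r) =
      (PrinPart.nbhd f n).presheaf.map (homOfLE ((PrinPart.pr1 f n).preimage_mono hlO)).op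
        ((PrinPart.pr1 f n).app O r) from
      ConcreteCategory.congr_hom ((PrinPart.pr1 f n).naturality (homOfLE hlO).op) r,
      TopCat.Presheaf.germ_res_apply]

include hord in
theorem lam_right (z : PrinPart.nbhd f n) (c : (PrinPart.nbhd f n).presheaf.stalk z)
    (s : X.presheaf.stalk (PrinPart.pr2 f n z)) (m : (F.presheaf.stalk (PrinPart.pr2 f n z) : Type u)) :
    lam (D := D) hlin n z ((PrinPart.pr2 f n).stalkMap z s * c) m = lam (D := D) hlin n z c (s • m) := by
  obtain ⟨O, hy, r, rfl⟩ := X.presheaf.exists_germ_eq s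
  obtain ⟨O', hO', h⟩ := rep_res hlin n (exists_rep (D := D) hlin n z c).choose_spec
  obtain ⟨U, hU, V, hV, hUV, hyU, hle, -⟩ := exists_small n z ⊤ trivial (O ⊓ O') ⟨hy, hO'⟩
  letI := (f.appLE V U hUV).hom.toAlgebra
  letI := M1.stalkModule F hyU
  letI := M1.stalkModule G hyU
  obtain ⟨w, hw, hl⟩ := h U V hUV (fun x hx => (hle hx).2) hyU
  have hlO : U ≤ O := fun x hx => (hle hx).1
  rw [← TopCat.Presheaf.germ_res_apply X.presheaf (homOfLE hlO) _ hyU r]
  rw [lam_eq hlin n hord ⟨U, hU, V, hV, hUV, hyU, w * (1 ⊗ₜ X.presheaf.map (homOfLE hlO).op r), ?_, rfl⟩,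
    show lam (D := D) hlin n z c = lamU f D hlin hUV hyU w from hl.symm]
  · refine (linAdd_mul_tmul (baseLin_stalkHom f D hlin hUV hyU) w _ _ m).trans ?_
    rw [one_smul]
    rfl
  · rw [map_mul, map_mul, hw, mul_comm, nbhdHom_tmul, map_one, one_mul, TopCat.Presheaf.germ_res_apply,
      Scheme.Hom.germ_stalkMap_apply]

include hord in
theorem lam_zero (z : PrinPart.nbhd f n) : lam (D := D) hlin n z 0 = 0 := by
  have := lam_add hlin n hord z 0 0
  rwa [zero_add, left_eq_add] at this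

/-- The operator on a stalk of principal parts. -/
noncomputable def stalkLift (hord : ∀ (U : X.Opens) (V : S.Opens), IsAffineOpen U → IsAffineOpen V → U ≤ f ⁻¹ᵁ V →
      Ord (B := Γ(X, U)) n (appHom D U)) (z : PrinPart.nbhd f n) :
    M2.BC (PrinPart.pr2 f n) z F →+ (G.presheaf.stalk (PrinPart.pr2 f n z) : Type u) :=
  TensorProduct.liftAddHom
    { toFun := fun c => lam (D := D) hlin n z c
      map_zero' := lam_zero hlin n hord z
      map_add' := fun c c' => lam_add hlin n hord z c c' }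
    (fun s c m => lam_right hlin n hord z c s m)

theorem stalkLift_one_tmul {z : PrinPart.nbhd f n} {U : X.Opens} (hy : PrinPart.pr2 f n z ∈ U) (t : Γ(F, U)) :
    stalkLift (D := D) hlin n hord z (1 ⊗ₜ F.presheaf.germ U _ hy t) = G.presheaf.germ U _ hy (appHom D U t) := by
  obtain ⟨U', hU', V', hV', hUV', hy', hle, -⟩ := exists_small n z ⊤ trivial U hy
  letI := (f.appLE V' U' hUV').hom.toAlgebra
  show lam (D := D) hlin n z 1 _ = _
  rw [lam_eq hlin n hord ⟨U', hU', V', hV', hUV', hy', 1, by rw [map_one, map_one], rfl⟩,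
    ← M1.germ_mres F hle hy' t, lamU_germ, linAdd_one, appHom_mres, M1.germ_mres]

theorem stalkLift_left {z : PrinPart.nbhd f n} {O : X.Opens} (hy : PrinPart.pr2 f n z ∈ O) (r : Γ(X, O))
    (w : M2.BC (PrinPart.pr2 f n) z F) :
    stalkLift (D := D) hlin n hord z ((PrinPart.nbhd f n).presheaf.germ (PrinPart.pr1 f n ⁻¹ᵁ O) z
        (show PrinPart.pr1 f n z ∈ O by rw [PrinPart.pr1_apply]; exact hy) ((PrinPart.pr1 f n).app O r) • w) =
      X.presheaf.germ O _ hy r • (stalkLift (D := D) hlin n hord z w : (G.presheaf.stalk (PrinPart.pr2 f n z) : Type u)) := by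
  induction w using TensorProduct.induction_on with
  | zero => simp
  | add a b ha hb => rw [smul_add, map_add, map_add, smul_add, ha, hb]
  | tmul c m =>
    rw [TensorProduct.smul_tmul', smul_eq_mul]
    exact lam_left hlin n hord z c hy r m

include hlin hord in
/-- The lift of an operator to principal parts. -/
theorem exists_lift : PrinPart.IsDiffOpLE f F G n D := by
  let p := PrinPart.pr1 f n
  let q := PrinPart.pr2 f n
  let N := (Scheme.Modules.pullback q).obj F
  have hz : ∀ {U : X.Opens} {z : PrinPart.nbhd f n}, z ∈ p ⁻¹ᵁ U → q z ∈ U := fun {U z} h => by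
    show q z ∈ U
    rw [← PrinPart.pr1_apply]; exact h
  let val : ∀ (U : X.Opens) (_ : Γ(PrinPart.PMod f n F, U)) (z : PrinPart.nbhd f n), z ∈ p ⁻¹ᵁ U →
      (G.presheaf.stalk (q z) : Type u) := fun U m z h =>
    stalkLift (D := D) hlin n hord z ((M2.pullStalkEquiv q z F).symm (N.presheaf.germ (p ⁻¹ᵁ U) z h m))
  have val_mres : ∀ (U W : X.Opens) (hle : W ≤ U) (m : Γ(PrinPart.PMod f n F, U)) (z) (h : z ∈ p ⁻¹ᵁ W),
      val W (M1.mres (PrinPart.PMod f n F) hle m) z h = val U m z (hle h) := fun U W hle m z h =>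
    congrArg (fun e => stalkLift (D := D) hlin n hord z ((M2.pullStalkEquiv q z F).symm e))
      (TopCat.Presheaf.germ_res_apply N.presheaf (homOfLE (p.preimage_mono hle)) z h m)
  have val_add : ∀ (U : X.Opens) (m m' : Γ(PrinPart.PMod f n F, U)) (z) (h : z ∈ p ⁻¹ᵁ U),
      val U (m + m') z h = val U m z h + val U m' z h := fun U m m' z h =>
    (congrArg (fun e => stalkLift (D := D) hlin n hord z ((M2.pullStalkEquiv q z F).symm e))
      (map_add (N.presheaf.germ (p ⁻¹ᵁ U) z h).hom m m')).trans (by rw [map_add, map_add]; rfl)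
  have val_smul : ∀ (U : X.Opens) (r : Γ(X, U)) (m : Γ(PrinPart.PMod f n F, U)) (z) (h : z ∈ p ⁻¹ᵁ U),
      val U (r • m) z h = X.presheaf.germ U _ (hz h) r • val U m z h := fun U r m z h => by
    refine (congrArg (fun e => stalkLift (D := D) hlin n hord z ((M2.pullStalkEquiv q z F).symm e))
      (M1.germ_smul N h (p.app U r) m)).trans ?_
    dsimp only
    rw [map_smul]
    exact stalkLift_left hlin n hord (hz h) r _
  have val_dP : ∀ (U : X.Opens) (t : Γ(F, U)) (z) (h : z ∈ p ⁻¹ᵁ U),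
      val U (PrinPart.dP f n F U t) z h = G.presheaf.germ U _ (hz h) (appHom D U t) := fun U t z h => by
    have e : N.presheaf.germ (p ⁻¹ᵁ U) z h (PrinPart.dP f n F U t) =
        M2.pullStalkEquiv q z F (1 ⊗ₜ F.presheaf.germ U (q z) (hz h) t) := by
      rw [M2.pullStalkEquiv_tmul]
      exact TopCat.Presheaf.germ_res_apply N.presheaf (homOfLE (le_pr2 f n U)) z h _
    show stalkLift (D := D) hlin n hord z _ = _
    rw [e, LinearEquiv.symm_apply_apply, stalkLift_one_tmul]
  have loc : ∀ (U : X.Opens) (m : Γ(PrinPart.PMod f n F, U)) (x : X), x ∈ U →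
      ∃ (O : X.Opens) (hO : O ≤ U) (s : Γ(G, O)), x ∈ O ∧
        ∀ z (h : z ∈ p ⁻¹ᵁ O), G.presheaf.germ O _ (hz h) s = val U m z (hO h) := fun U m x hx => by
    obtain ⟨O, hO, hxO, hmem⟩ := exists_mres_mem_spanDP f n F m hx
    suffices hs : ∀ w ∈ spanDP f n F O, ∃ s : Γ(G, O), ∀ z (h : z ∈ p ⁻¹ᵁ O),
        G.presheaf.germ O _ (hz h) s = val O w z h by
      obtain ⟨s, hs⟩ := hs _ hmem
      exact ⟨O, hO, s, hxO, fun z h => by rw [hs z h, val_mres]⟩
    intro w hw
    induction hw using Submodule.span_induction with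
    | mem y hy =>
      obtain ⟨t, rfl⟩ := hy
      exact ⟨appHom D O t, fun z h => (val_dP O t z h).symm⟩
    | zero =>
      refine ⟨0, fun z h => ?_⟩
      show _ = stalkLift (D := D) hlin n hord z ((M2.pullStalkEquiv q z F).symm
        ((N.presheaf.germ (p ⁻¹ᵁ O) z h).hom (0 : Γ(N, p ⁻¹ᵁ O))))
      rw [map_zero, map_zero, map_zero, map_zero]
    | add a b _ _ ha hb =>
      obtain ⟨sa, ha⟩ := ha
      obtain ⟨sb, hb⟩ := hb
      exact ⟨sa + sb, fun z h => by rw [map_add, ha, hb, val_add]⟩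
    | smul r a _ ha =>
      obtain ⟨sa, ha⟩ := ha
      exact ⟨r • sa, fun z h => by rw [M1.germ_smul, ha, val_smul]⟩
  have glue : ∀ (U : X.Opens) (m : Γ(PrinPart.PMod f n F, U)), ∃ s : Γ(G, U),
      ∀ z (h : z ∈ p ⁻¹ᵁ U), G.presheaf.germ U _ (hz h) s = val U m z h := fun U m => by
    choose O hO s hxO hs using fun x : U => loc U m x x.2
    obtain ⟨σ, hσ, -⟩ := TopCat.Sheaf.existsUnique_gluing' ⟨_, G.isSheaf⟩ O U
      (fun x => homOfLE (hO x)) (fun x hx => Opens.mem_iSup.2 ⟨⟨x, hx⟩, hxO _⟩) s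
      (fun i j => by
        refine M1.section_ext _ _ fun x hx => ?_
        have hzx : PrinPart.toNbhd f n x ∈ p ⁻¹ᵁ (O i ⊓ O j) := by
          show p (PrinPart.toNbhd f n x) ∈ O i ⊓ O j
          rw [toNbhd_pr1_apply]; exact hx
        have e1 := hs i (PrinPart.toNbhd f n x) (p.preimage_mono inf_le_left hzx)
        have e2 := hs j (PrinPart.toNbhd f n x) (p.preimage_mono inf_le_right hzx)
        have hxy : q (PrinPart.toNbhd f n x) = x := toNbhd_pr2_apply f n x
        have key : ∀ (y : X) (_ : q (PrinPart.toNbhd f n x) = y) (hi : y ∈ O i) (hj : y ∈ O j),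
            G.presheaf.germ (O i) y hi (s i) = G.presheaf.germ (O j) y hj (s j) := by
          intro y hy hi hj; subst hy
          exact e1.trans e2.symm
        refine (TopCat.Presheaf.germ_res_apply G.presheaf (homOfLE inf_le_left) x hx (s i)).trans ?_
        refine (key x hxy hx.1 hx.2).trans ?_
        exact (TopCat.Presheaf.germ_res_apply G.presheaf (homOfLE inf_le_right) x hx (s j)).symm)
    refine ⟨σ, fun z h => ?_⟩
    obtain ⟨i, hi⟩ : ∃ i, q z ∈ O i := ⟨⟨q z, hz h⟩, hxO _⟩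
    have hi' : z ∈ p ⁻¹ᵁ O i := by show p z ∈ O i; rw [PrinPart.pr1_apply]; exact hi
    rw [← hs i z hi']
    refine Eq.trans ?_ (congrArg _ (hσ i))
    exact (TopCat.Presheaf.germ_res_apply G.presheaf (homOfLE (hO i)) (q z) hi σ).symm
  choose u hu using glue
  have uniq : ∀ (U : X.Opens) (a b : Γ(G, U)),
      (∀ z (h : z ∈ p ⁻¹ᵁ U), G.presheaf.germ U _ (hz h) a = G.presheaf.germ U _ (hz h) b) → a = b := by
    intro U a b hab
    refine M1.section_ext _ _ fun x hx => ?_
    have hzx : PrinPart.toNbhd f n x ∈ p ⁻¹ᵁ U := by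
      show p (PrinPart.toNbhd f n x) ∈ U
      rw [toNbhd_pr1_apply]; exact hx
    have key : ∀ (y : X) (_ : q (PrinPart.toNbhd f n x) = y) (hy : y ∈ U),
        G.presheaf.germ U y hy a = G.presheaf.germ U y hy b := by
      intro y hy hyU; subst hy
      exact hab _ hzx
    exact key x (toNbhd_pr2_apply f n x) hx
  let φ : (PrinPart.PMod f n F).presheaf ⟶ G.presheaf :=
    { app := fun U => AddCommGrpCat.ofHom (AddMonoidHom.mk' (u U.unop) fun a b => uniq _ _ _ fun z h => by
        rw [map_add, hu _ _ z h, hu _ _ z h, hu _ _ z h, val_add])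
      naturality := fun U V i => by
        ext m
        refine uniq _ _ _ fun z h => ?_
        show G.presheaf.germ V.unop _ _ (u V.unop (M1.mres (PrinPart.PMod f n F) i.unop.le m)) =
          G.presheaf.germ V.unop _ _ (M1.mres G i.unop.le (u U.unop m))
        rw [hu _ _ z h, val_mres, M1.germ_mres, hu _ _ z (i.unop.le h)] }
  refine ⟨⟨PresheafOfModules.homMk φ fun U r m => uniq _ _ _ fun z h => ?_⟩, fun U t => uniq _ _ _ fun z h => ?_⟩
  · show G.presheaf.germ U.unop _ _ (u U.unop (r • m)) =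
      G.presheaf.germ U.unop _ _ ((show Γ(X, U.unop) from r) • u U.unop m)
    rw [hu _ _ z h, M1.germ_smul, hu _ _ z h]
    exact val_smul _ _ _ z h
  · show G.presheaf.germ U _ _ (appHom D U t) = G.presheaf.germ U _ _ (u U (PrinPart.dP f n F U t))
    rw [hu _ _ z h, val_dP]

omit hord in
theorem isDOp_of_isDiffOpLE (h : PrinPart.IsDiffOpLE f F G n D) : IsDOp f D n := by
  obtain ⟨v, hv⟩ := h
  have hb : IsBaseLin f D := by
    intro V s U hU t
    rw [hv, hv]
    have e : PrinPart.dP f n F U (X.presheaf.map (homOfLE hU).op (f.app V s) • t) =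
        X.presheaf.map (homOfLE hU).op (f.app V s) • PrinPart.dP f n F U t := by
      refine (dP_smul f n F _ t).trans ?_
      refine Eq.trans ?_ (smul_PMod f n F _ _).symm
      congr 1
      have h2 := congr($(comm_base f n hU) s)
      simp only [Scheme.Hom.appLE, CommRingCat.comp_apply] at h2
      refine h2.trans ?_
      exact ConcreteCategory.congr_hom ((PrinPart.nbhd f n).presheaf.map_id _) _
    rw [e, Scheme.Modules.Hom.app_smul]
  refine ⟨hb, fun U V hU hV hUV => ?_⟩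
  letI := (f.appLE V U hUV).hom.toAlgebra
  refine (ord_iff (baseLin_appHom f D hb hUV) n).2 fun w hw => AddMonoidHom.ext fun t => ?_
  have key : ∀ w : Γ(X, U) ⊗[Γ(S, V)] Γ(X, U), linAdd (baseLin_appHom f D hb hUV) w t =
      v.app U (nbhdHom f n hUV w • (show Γ((Scheme.Modules.pullback (PrinPart.pr2 f n)).obj F,
        PrinPart.pr1 f n ⁻¹ᵁ U) from PrinPart.dP f n F U t) : _) := by
    intro w
    induction w using TensorProduct.induction_on with
    | zero => simp
    | add a b ha hb =>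
      simp only [map_add, AddMonoidHom.add_apply, ha, hb, add_smul]
    | tmul a b =>
      rw [linAdd_tmul, nbhdHom_tmul, mul_smul, ← dP_smul]
      refine Eq.trans ?_ (Scheme.Modules.Hom.app_smul v a (PrinPart.dP f n F U (b • t))).symm
      exact congrArg (a • ·) (hv U (b • t))
  rw [key, show nbhdHom f n hUV w = 0 from (nbhdHom_chart f n hUV hU hV).2.ge hw, zero_smul]
  exact map_zero _

omit hord in
/-- The universal property of principal parts. -/
theorem isDiffOpLE_iff : PrinPart.IsDiffOpLE f F G n D ↔ IsDOp f D n :=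
  ⟨fun h => isDOp_of_isDiffOpLE n h, fun h => exists_lift h.1 n h.2⟩

end Groth.Agent.PP12
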