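import Groth.Agent.Lib.PP12.Gen

/-!
# Epimorphisms onto sheaves of principal parts; `P⁰`
-/

set_option autoImplicit false
set_option backward.isDefEq.respectTransparency false
set_option backward.isDefEq.respectTransparency.types false
set_option linter.style.haveILetI false

universe u

open CategoryTheory CategoryTheory.Limits AlgebraicGeometry TopologicalSpace Opposite

namespace Groth.Agent.PP12

variable {X S : Scheme.{u}} (f : X ⟶ S) (n : ℕ)

theorem dn_map {U V : X.Opens} (e : V ≤ U) (b : Γ(X, U)) :
    PrinPart.dn f n V (X.presheaf.map (homOfLE e).op b) =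
      (PrinPart.P f n).presheaf.map (homOfLE e).op (PrinPart.dn f n U b) :=
  PrinPart.dP_map f n (Coh.structureModule X) e b

/-- A map onto principal parts hitting locally every `dⁿ b` is an epimorphism. -/
theorem epi_of_dn {M : X.Modules} (φ : M ⟶ PrinPart.P f n)
    (h : ∀ (U : X.Opens) (b : Γ(X, U)) (x : X), x ∈ U → ∃ (O : X.Opens) (hO : O ≤ U),
      x ∈ O ∧ ∃ m, φ.app O m = PrinPart.dn f n O (X.presheaf.map (homOfLE hO).op b)) : Epi φ := by
  refine ⟨fun {G} a b hab => hom_ext_dP f n _ fun U t => ?_⟩
  refine M1.section_ext _ _ fun x hx => ?_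
  obtain ⟨O, hle, hxO, m, hm⟩ := h U t x hx
  rw [← M1.germ_mres G hle hxO, ← M1.germ_mres G hle hxO, ← M1.app_mres, ← M1.app_mres]
  refine congrArg _ ?_
  have e : M1.mres (PrinPart.P f n) hle (PrinPart.dP f n (Coh.structureModule X) U t) = φ.app O m :=
    (dn_map f n hle t).symm.trans hm.symm
  rw [show M1.mres (PrinPart.PMod f n (Coh.structureModule X)) hle (PrinPart.dP f n (Coh.structureModule X) U t) =
    φ.app O m from e]
  exact congrArg (fun ψ => Scheme.Modules.Hom.app ψ O m) hab

end Groth.Agent.PP12
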