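import Groth.Agent.Lib.PP12.DiffOps
import Groth.Agent.Lib.PP12.Zero

/-!
# `P¹ = O ⊕ Ω`
-/

set_option autoImplicit false
set_option backward.isDefEq.respectTransparency false
set_option backward.isDefEq.respectTransparency.types false
set_option linter.style.haveILetI false

universe u

open CategoryTheory CategoryTheory.Limits AlgebraicGeometry TopologicalSpace Opposite TensorProduct

namespace Groth.Agent.PP12

variable {X S : Scheme.{u}} (f : X ⟶ S)

theorem hom_ext_structure {G : X.Modules} {a b : Coh.structureModule X ⟶ G}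
    (h : ∀ U, a.app U (OmegaSh.strSect X U 1) = b.app U (OmegaSh.strSect X U 1)) : a = b := by
  refine Scheme.Modules.hom_ext _ _ fun U => ?_
  ext s
  have hs : OmegaSh.strSect X U s = (show Γ(X, U) from s) • OmegaSh.strSect X U 1 := by
    rw [strSect_smul, mul_one]
  show a.app U (OmegaSh.strSect X U s) = b.app U (OmegaSh.strSect X U s)
  rw [hs, Scheme.Modules.Hom.app_smul, Scheme.Modules.Hom.app_smul, h]

theorem exists_fun_part :
    ∃ π : PrinPart.P f 1 ⟶ Coh.structureModule X, ∀ (U : X.Opens) (s : Γ(X, U)),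
      π.app U (PrinPart.dn f 1 U s) = OmegaSh.strSect X U s := by
  obtain ⟨v, hv⟩ := isDiffOpLE_of_le f (Nat.zero_le 1)
    ((isDiffOpLE_zero_iff f (Coh.structureModule X) (Coh.structureModule X) (𝟙 _)).2 fun _ _ _ => rfl)
  exact ⟨v, fun U s => (hv U (OmegaSh.strSect X U s)).symm⟩

/-- A derivation as a map of sheaves. -/
noncomputable def derHom {M : X.Modules} (d : OmegaSh.Der f M) :
    (Coh.structureModule X).presheaf ⟶ M.presheaf where
  app U := AddCommGrpCat.ofHom (d.d (X := U) : Γ(X, U.unop) →+ Γ(M, U.unop))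
  naturality U V i := by
    ext a
    exact d.d_map i a

theorem isDiffOpLE_derHom {M : X.Modules} (d : OmegaSh.Der f M) :
    PrinPart.IsDiffOpLE f (Coh.structureModule X) M 1 (derHom f d) := by
  have hlin : IsBaseLin f (derHom f d) := by
    intro V s U hU t
    show d.app U (X.presheaf.map (homOfLE hU).op (f.app V s) * (show Γ(X, U) from t)) =
      X.presheaf.map (homOfLE hU).op (f.app V s) • d.app U (show Γ(X, U) from t)
    refine (d.d_mul (X := op U) _ _).trans ?_
    have h0 : d.app U (X.presheaf.map (homOfLE hU).op (f.app V s)) = 0 :=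
      (d.d_map (homOfLE hU).op (f.app V s)).trans
        ((congrArg _ (d.d_app (X := op V) s)).trans (map_zero _))
    rw [show d.d (X := op U) (X.presheaf.map (homOfLE hU).op (f.app V s)) = 0 from h0, smul_zero, add_zero]
    rfl
  refine (isDiffOpLE_iff 1).2 ⟨hlin, fun U V _ _ _ a b => AddMonoidHom.ext fun t => ?_⟩
  have key : ∀ t : Γ(X, U), comm a (appHom (derHom f d) U) t = t • d.app U a := fun t => by
    show d.app U (a * t) - a • d.app U t = t • d.app U a
    rw [show d.app U (a * t) = a • d.app U t + t • d.app U a from d.d_mul (X := op U) a t]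
    abel
  show comm a (appHom (derHom f d) U) (b • t) - b • comm a (appHom (derHom f d) U) t = 0
  refine sub_eq_zero.2 ((key (b * (show Γ(X, U) from t))).trans ?_)
  refine (mul_smul b (show Γ(X, U) from t) (d.app U a)).trans ?_
  exact congrArg (b • ·) (key t).symm

theorem isIso_coprod_desc [QuasiSeparated f]
    (e : Coh.structureModule X ⟶ PrinPart.P f 1)
    (he : ∀ (U : X.Opens) (s : Γ(X, U)), e.app U (OmegaSh.strSect X U s) = s • PrinPart.dn f 1 U 1)
    (ι : Omega.sheaf f ⟶ PrinPart.P f 1)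
    (hι : ∀ (U : X.Opens) (s : Γ(X, U)),
      ι.app U ((OmegaSh.dOmega f).app U s) = PrinPart.dn f 1 U s - s • PrinPart.dn f 1 U 1) :
    IsIso (coprod.desc e ι) := by
  obtain ⟨π₀, h₀⟩ := exists_fun_part f
  obtain ⟨π₁, h₁⟩ := isDiffOpLE_derHom f (OmegaSh.dOmega f)
  have h₁' : ∀ (U : X.Opens) (s : Γ(X, U)), π₁.app U (PrinPart.dn f 1 U s) = (OmegaSh.dOmega f).app U s :=
    fun U s => (h₁ U (OmegaSh.strSect X U s)).symm
  have he₀ : e ≫ π₀ = 𝟙 _ := hom_ext_structure fun U => by
    show π₀.app U (e.app U _) = OmegaSh.strSect X U 1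
    rw [he, one_smul, h₀]
  have hd1 : ∀ U, (OmegaSh.dOmega f).app U (1 : Γ(X, U)) = 0 := fun U => by
    have h := (OmegaSh.dOmega f).d_mul (X := op U) 1 1
    simp only [mul_one, one_smul] at h
    exact (left_eq_add.1 h : _)
  have he₁ : e ≫ π₁ = 0 := hom_ext_structure fun U => by
    show π₁.app U (e.app U _) = Scheme.Modules.Hom.app (0 : Coh.structureModule X ⟶ Omega.sheaf f) U _
    rw [he, one_smul, h₁', hd1]
    simp
  have hι₀ : ι ≫ π₀ = 0 := Omega12.hom_ext_der f (Omega12.isUniversal_dOmega f) fun U s => by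
    show π₀.app U (ι.app U _) = Scheme.Modules.Hom.app (0 : Omega.sheaf f ⟶ Coh.structureModule X) U _
    rw [hι, map_sub, Scheme.Modules.Hom.app_smul, h₀, h₀, strSect_smul, mul_one, sub_self]
    simp
  have hι₁ : ι ≫ π₁ = 𝟙 _ := Omega12.hom_ext_der f (Omega12.isUniversal_dOmega f) fun U s => by
    show π₁.app U (ι.app U _) = (OmegaSh.dOmega f).app U s
    rw [hι, map_sub, Scheme.Modules.Hom.app_smul, h₁', h₁', hd1, smul_zero, sub_zero]
  refine ⟨π₀ ≫ coprod.inl + π₁ ≫ coprod.inr, ?_, ?_⟩
  · apply coprod.hom_ext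
    · rw [coprod.inl_desc_assoc, Preadditive.comp_add, ← Category.assoc, ← Category.assoc, he₀, he₁]
      simp
    · rw [coprod.inr_desc_assoc, Preadditive.comp_add, ← Category.assoc, ← Category.assoc, hι₀, hι₁]
      simp
  · rw [Preadditive.add_comp, Category.assoc, Category.assoc, coprod.inl_desc, coprod.inr_desc]
    refine hom_ext_dP f 1 _ fun U t => ?_
    show (π₀ ≫ e + π₁ ≫ ι).app U (PrinPart.dn f 1 U (show Γ(X, U) from t)) = PrinPart.dn f 1 U (show Γ(X, U) from t)
    show e.app U (π₀.app U (PrinPart.dn f 1 U (show Γ(X, U) from t))) +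
      ι.app U (π₁.app U (PrinPart.dn f 1 U (show Γ(X, U) from t))) = _
    rw [h₀, h₁', he, hι]
    abel

end Groth.Agent.PP12
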