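import Groth.Agent.Lib.PP12.PartsBC
import Groth.Agent.Lib.PP12.PMod
import Groth.Agent.Lib.PP12.Sect
import Groth.Agent.Lib.PullBC11.Crit
import Groth.Agent.Lib.FlatH4.PullChart
import Groth.Agent.Lib.ModM1.Local

/-!
# Base change of principal parts
-/

set_option autoImplicit false
set_option backward.isDefEq.respectTransparency false
set_option backward.isDefEq.respectTransparency.types false
set_option linter.style.haveILetI false

universe u

open CategoryTheory CategoryTheory.Limits AlgebraicGeometry TopologicalSpace Opposite TensorProduct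

namespace Groth.Agent.PP12

variable {X S X' S' : Scheme.{u}} {f : X ⟶ S} {g : S' ⟶ S} {u : X' ⟶ X} {f' : X' ⟶ S'} (n : ℕ)

/-- The adjoint of a map of principal parts. -/
noncomputable def pAdj (φ : (Scheme.Modules.pullback u).obj (PrinPart.P f n) ⟶ PrinPart.P f' n) :
    PrinPart.P f n ⟶ (Scheme.Modules.pushforward u).obj (PrinPart.P f' n) :=
  (Scheme.Modules.pullbackPushforwardAdjunction u).homEquiv _ _ φ

theorem sect_pAdj_dn {φ : (Scheme.Modules.pullback u).obj (PrinPart.P f n) ⟶ PrinPart.P f' n}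
    (hφ : PrinPart.IsPMap f f' u n φ) {U : X.Opens} {U' : X'.Opens} (hle : U' ≤ u ⁻¹ᵁ U) (a b : Γ(X, U)) :
    PullBC11.sect (pAdj n φ) hle (a • PrinPart.dn f n U b) =
      (show Γ(PrinPart.P f' n, U') from
        u.appLE U U' hle a • PrinPart.dn f' n U' (u.appLE U U' hle b)) := by
  letI := PullBC11.baseModule (g := u) (PrinPart.P f' n) hle
  rw [map_smul]
  show u.appLE U U' hle a • M1.mres (PrinPart.P f' n) hle ((pAdj n φ).app U (PrinPart.dn f n U b)) = _
  congr 1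
  rw [pAdj, Adjunction.homEquiv_unit]
  show M1.mres (PrinPart.P f' n) hle (φ.app (u ⁻¹ᵁ U) (OmegaSh.pullSect u (PrinPart.P f n) U (PrinPart.dn f n U b))) = _
  rw [hφ U b]
  exact (PrinPart.dP_map f' n (Coh.structureModule X') hle
    (OmegaSh.strSect X' (u ⁻¹ᵁ U) (u.app U b))).symm

set_option maxHeartbeats 1600000 in
theorem isBC_pAdj {φ : (Scheme.Modules.pullback u).obj (PrinPart.P f n) ⟶ PrinPart.P f' n}
    (hφ : PrinPart.IsPMap f f' u n φ) {U : X.Opens} (hU : IsAffineOpen U) {V : S.Opens} (hV : IsAffineOpen V)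
    (hUV : U ≤ f ⁻¹ᵁ V) {U' : X'.Opens} (hU' : IsAffineOpen U') {V' : S'.Opens} (hV' : IsAffineOpen V')
    (hUV' : U' ≤ f' ⁻¹ᵁ V') (hle : U' ≤ u ⁻¹ᵁ U) (hVle : V' ≤ g ⁻¹ᵁ V)
    (hpo : CategoryTheory.IsPushout (f.appLE V U hUV) (g.appLE V V' hVle) (u.appLE U U' hle) (f'.appLE V' U' hUV')) :
    PullBC11.IsBC (pAdj n φ) hle := by
  letI a1 : Algebra Γ(S, V) Γ(X, U) := (f.appLE V U hUV).hom.toAlgebra
  letI a2 : Algebra Γ(S, V) Γ(S', V') := (g.appLE V V' hVle).hom.toAlgebra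
  letI a3 : Algebra Γ(X, U) Γ(X', U') := (u.appLE U U' hle).hom.toAlgebra
  letI a4 : Algebra Γ(S', V') Γ(X', U') := (f'.appLE V' U' hUV').hom.toAlgebra
  letI a5 : Algebra Γ(S, V) Γ(X', U') :=
    ((algebraMap Γ(X, U) Γ(X', U')).comp (algebraMap Γ(S, V) Γ(X, U))).toAlgebra
  haveI : IsScalarTower Γ(S, V) Γ(X, U) Γ(X', U') := IsScalarTower.of_algebraMap_eq' rfl
  haveI : IsScalarTower Γ(S, V) Γ(S', V') Γ(X', U') := IsScalarTower.of_algebraMap_eq'
    (congrArg CommRingCat.Hom.hom hpo.w)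
  haveI hp : Algebra.IsPushout Γ(S, V) Γ(X, U) Γ(S', V') Γ(X', U') := CommRingCat.isPushout_iff_isPushout.mp hpo
  haveI : Algebra.IsPushout Γ(S, V) Γ(S', V') Γ(X, U) Γ(X', U') := hp.symm
  obtain ⟨hs, hk⟩ := nbhdHom_chart f n hUV hU hV
  obtain ⟨hs', hk'⟩ := nbhdHom_chart f' n hUV' hU' hV'
  let P := Γ(PrinPart.nbhd f n, PrinPart.pr1 f n ⁻¹ᵁ U)
  letI algP : Algebra Γ(X, U) P := ((nbhdHom f n hUV).comp Algebra.TensorProduct.includeLeftRingHom).toAlgebra
  have hP : ∀ a : Γ(X, U), algebraMap Γ(X, U) P a = (PrinPart.pr1 f n).app U a := fun a => by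
    show nbhdHom f n hUV (a ⊗ₜ 1) = _
    rw [nbhdHom_tmul, map_one, map_one, mul_one]
  let e : Γ(PrinPart.P f n, U) ≃ₗ[Γ(X, U)] P :=
    { sectFun f n U with
      map_smul' := fun a m => by
        show sectFun f n U (a • m) = a • sectFun f n U m
        rw [sectFun_smul, ← hP, Algebra.smul_def] }
  obtain ⟨Λ, hΛ, hΛ'⟩ := exists_comparison Γ(S, V) Γ(S', V') Γ(X, U) Γ(X', U') (nbhdHom f n hUV)
    (nbhdHom f' n hUV') hs hs' n hk hk'
  letI := PullBC11.baseModule (g := u) (PrinPart.P f' n) hle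
  haveI : IsScalarTower Γ(X, U) Γ(X', U') Γ(PrinPart.P f' n, U') := IsScalarTower.of_algebraMap_smul fun _ _ => rfl
  let Φ := (PullBC11.sect (pAdj n φ) hle).liftBaseChange Γ(X', U')
  have key : ∀ z : Γ(X', U') ⊗[Γ(X, U)] Γ(PrinPart.P f n, U),
      sectFun f' n U' (Φ z) = Λ (LinearEquiv.baseChange Γ(X, U) Γ(X', U') _ _ e z) := by
    intro z
    induction z using TensorProduct.induction_on with
    | zero => simp
    | add x y hx hy => rw [map_add, map_add, map_add, map_add, hx, hy]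
    | tmul x m =>
      obtain ⟨w, hw⟩ := hs (e m)
      have hm : m = e.symm (nbhdHom f n hUV w) := by rw [hw, e.symm_apply_apply]
      subst hm
      clear hw
      induction w using TensorProduct.induction_on with
      | zero => simp
      | add w₁ w₂ h₁ h₂ => simp only [map_add, TensorProduct.tmul_add, h₁, h₂]
      | tmul a b =>
        have he : e.symm (nbhdHom f n hUV (a ⊗ₜ b)) = a • PrinPart.dn f n U b :=
          e.injective ((e.apply_symm_apply _).trans (sectFun_smul_dn f n hUV a b).symm)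
        show sectFun f' n U' ((PullBC11.sect (pAdj n φ) hle).liftBaseChange Γ(X', U') (x ⊗ₜ _)) =
          Λ (x ⊗ₜ e (e.symm (nbhdHom f n hUV (a ⊗ₜ b))))
        rw [e.apply_symm_apply, hΛ', he, LinearMap.liftBaseChange_tmul, sect_pAdj_dn n hφ hle a b, ← mul_smul]
        exact sectFun_smul_dn f' n hUV' _ _
  have hbij : Function.Bijective Φ := by
    have h : Function.Bijective (sectFun f' n U' ∘ Φ) := by
      rw [show sectFun f' n U' ∘ Φ = Λ ∘ LinearEquiv.baseChange Γ(X, U) Γ(X', U') _ _ e from funext key]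
      exact hΛ.comp (LinearEquiv.bijective _)
    exact (Function.Bijective.of_comp_iff' (sectFun f' n U').bijective _).1 h
  show IsBaseChange Γ(X', U') (PullBC11.sect (pAdj n φ) hle)
  exact IsBaseChange.of_equiv (LinearEquiv.ofBijective Φ hbij) fun s => LinearMap.liftBaseChange_one_tmul _ _ _

theorem isIso_pMap (hsq : IsPullback u f' f g)
    (φ : (Scheme.Modules.pullback u).obj (PrinPart.P f n) ⟶ PrinPart.P f' n) (hφ : PrinPart.IsPMap f f' u n φ) :
    IsIso φ := by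
  have h2 := PullBC11.isIso_of_isBC (pAdj n φ) (isQCoh_PMod f n _ (M1.isQCoh_structureModule X))
    (isQCoh_PMod f' n _ (M1.isQCoh_structureModule X')) fun y => ?_
  · rwa [pAdj, Equiv.symm_apply_apply] at h2
  · obtain ⟨V, hV, hyV₀, -⟩ := exists_isAffineOpen_mem_and_subset (X := S) (x := f (u y)) (U := ⊤) trivial
    obtain ⟨U, hU, hyU, hUV⟩ := exists_isAffineOpen_mem_and_subset (X := X) (x := u y) (U := f ⁻¹ᵁ V) hyV₀
    have hyV : g (f' y) ∈ V := by
      rw [← Scheme.Hom.comp_apply, ← hsq.w, Scheme.Hom.comp_apply]; exact hyV₀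
    obtain ⟨V', hV', hyV', hVle⟩ := exists_isAffineOpen_mem_and_subset (X := S') (x := f' y) (U := g ⁻¹ᵁ V) hyV
    obtain ⟨U', hU'eq⟩ : ∃ U', U' = u ⁻¹ᵁ U ⊓ f' ⁻¹ᵁ V' := ⟨_, rfl⟩
    have hU' : IsAffineOpen U' := FlatH4.isAffineOpen_of_isPullback hsq hVle hUV hU'eq hV hV' hU
    exact ⟨U, hU, U', hU', hU'eq ▸ inf_le_left, hU'eq ▸ ⟨hyU, hyV'⟩,
      isBC_pAdj n hφ hU hV hUV hU' hV' (hU'eq ▸ inf_le_right) _ hVle
        (FlatH4.isPushout_sections hsq hVle hUV hU'eq hV hV' hU)⟩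

end Groth.Agent.PP12
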