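import Mathlib.RingTheory.Kaehler.Basic
import Mathlib.RingTheory.IsTensorProduct

/-!
# Principal parts of a pushout of algebras
-/

set_option autoImplicit false
set_option backward.isDefEq.respectTransparency false
set_option linter.style.haveILetI false

universe u

open TensorProduct

namespace Groth.Agent.PP12

variable (A A' B B' : Type u) [CommRing A] [CommRing A'] [CommRing B] [CommRing B']
  [Algebra A B] [Algebra A A'] [Algebra A' B'] [Algebra B B'] [Algebra A B'] [IsScalarTower A B B']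
  [IsScalarTower A A' B'] [Algebra.IsPushout A A' B B']

include A in
/-- `B` is generated by the two sides of a pushout. -/
theorem pushout_induction {p : B' → Prop} (ha : ∀ a, p (algebraMap A' B' a)) (hb : ∀ b, p (algebraMap B B' b))
    (hadd : ∀ x y, p x → p y → p (x + y)) (hmul : ∀ x y, p x → p y → p (x * y)) (x : B') : p x := by
  obtain ⟨z, rfl⟩ := (Algebra.IsPushout.equiv A A' B B').surjective x
  induction z using TensorProduct.induction_on with
  | zero => rw [map_zero, ← map_zero (algebraMap A' B')]; exact ha 0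
  | add x y hx hy => rw [map_add]; exact hadd _ _ hx hy
  | tmul a b => rw [Algebra.IsPushout.equiv_tmul]; exact hmul _ _ (ha a) (hb b)

variable {P P' : Type u} [CommRing P] [CommRing P'] (χ : B ⊗[A] B →+* P) (χ' : B' ⊗[A'] B' →+* P')

theorem exists_comparison (hs : Function.Surjective χ) (hs' : Function.Surjective χ') (n : ℕ)
    (hk : RingHom.ker χ = KaehlerDifferential.ideal A B ^ (n + 1))
    (hk' : RingHom.ker χ' = KaehlerDifferential.ideal A' B' ^ (n + 1)) :
    letI := (χ.comp Algebra.TensorProduct.includeLeftRingHom).toAlgebra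
    ∃ Λ : B' ⊗[B] P →+ P', Function.Bijective Λ ∧
      ∀ (b' : B') (a b : B), Λ (b' ⊗ₜ χ (a ⊗ₜ b)) = χ' ((b' * algebraMap B B' a) ⊗ₜ algebraMap B B' b) := by
  letI algP : Algebra B P := (χ.comp Algebra.TensorProduct.includeLeftRingHom).toAlgebra
  have hP : ∀ b, algebraMap B P b = χ (b ⊗ₜ 1) := fun b => rfl
  let iR : P →ₐ[B] B' ⊗[B] P := Algebra.TensorProduct.includeRight
  have hiR : ∀ p, iR p = (1 : B') ⊗ₜ p := fun p => rfl
  -- the right coprojection
  let gR : B →ₐ[A] B' ⊗[B] P :=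
    { iR.toRingHom.comp (χ.comp (Algebra.TensorProduct.includeRight : B →ₐ[A] B ⊗[A] B).toRingHom) with
      commutes' := fun a => by
        show iR (χ ((1 : B) ⊗ₜ algebraMap A B a)) = _
        rw [show ((1 : B) ⊗ₜ[A] algebraMap A B a) = algebraMap A B a ⊗ₜ (1 : B) from
          ((Algebra.TensorProduct.includeRight : B →ₐ[A] B ⊗[A] B).commutes a).trans
            ((Algebra.TensorProduct.includeLeft (R := A) (S := A) : B →ₐ[A] B ⊗[A] B).commutes a).symm,
          ← hP, iR.commutes, IsScalarTower.algebraMap_apply A B (B' ⊗[B] P)] }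
  let fR : A' →ₐ[A] B' ⊗[B] P :=
    ((Algebra.TensorProduct.includeLeft (R := B) (S := B) : B' →ₐ[B] B' ⊗[B] P).restrictScalars A).comp
      (IsScalarTower.toAlgHom A A' B')
  let r : B' →ₐ[A] B' ⊗[B] P := Algebra.pushoutDesc B' fR gR (fun _ _ => mul_comm _ _)
  have hra : ∀ a, r (algebraMap A' B' a) = algebraMap A' B' a ⊗ₜ (1 : P) := fun a =>
    Algebra.pushoutDesc_left B' fR gR _ a
  have hrb : ∀ b, r (algebraMap B B' b) = (1 : B') ⊗ₜ χ (1 ⊗ₜ b) := fun b =>
    Algebra.pushoutDesc_right B' fR gR _ b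
  let rA : B' →ₐ[A'] B' ⊗[B] P := { r.toRingHom with commutes' := hra }
  let lA : B' →ₐ[A'] B' ⊗[B] P :=
    { (Algebra.TensorProduct.includeLeftRingHom : B' →+* B' ⊗[B] P) with commutes' := fun a => rfl }
  let ρ : B' ⊗[A'] B' →+* B' ⊗[B] P := (Algebra.TensorProduct.lift lA rA (fun _ _ => Commute.all _ _)).toRingHom
  have hρ : ∀ x y, ρ (x ⊗ₜ y) = (x ⊗ₜ[B] (1 : P)) * r y := fun x y => Algebra.TensorProduct.lift_tmul lA rA _ x y
  -- the kernel
  let J : Ideal (B' ⊗[B] P) := ((KaehlerDifferential.ideal A B).map χ).map iR.toRingHom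
  have hJ : J ^ (n + 1) = ⊥ := by
    rw [← Ideal.map_pow, ← Ideal.map_pow, ← hk,
      show (RingHom.ker χ).map χ = ⊥ from (Ideal.map_eq_bot_iff_le_ker χ).2 le_rfl, Ideal.map_bot]
  have hgen : ∀ x : B', r x - x ⊗ₜ[B] (1 : P) ∈ J := by
    intro x
    induction x using pushout_induction A A' B B' with
    | ha a => rw [hra, sub_self]; exact J.zero_mem
    | hb b =>
      have e : algebraMap B B' b ⊗ₜ[B] (1 : P) = (1 : B') ⊗ₜ χ (b ⊗ₜ 1) := by
        rw [← hP]
        exact ((Algebra.TensorProduct.includeLeft (R := B) (S := B) : B' →ₐ[B] B' ⊗[B] P).commutes b).trans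
          (iR.commutes b).symm
      rw [hrb, e, ← TensorProduct.tmul_sub, ← map_sub]
      exact Ideal.mem_map_of_mem iR.toRingHom (Ideal.mem_map_of_mem χ (KaehlerDifferential.one_smul_sub_smul_one_mem_ideal A b))
    | hadd x y hx hy =>
      rw [map_add, TensorProduct.add_tmul, show r x + r y - (x ⊗ₜ[B] (1 : P) + y ⊗ₜ 1) =
        (r x - x ⊗ₜ 1) + (r y - y ⊗ₜ 1) by ring]
      exact J.add_mem hx hy
    | hmul x y hx hy =>
      rw [map_mul, show (x * y) ⊗ₜ[B] (1 : P) = x ⊗ₜ 1 * y ⊗ₜ 1 by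
          rw [Algebra.TensorProduct.tmul_mul_tmul, one_mul],
        show r x * r y - x ⊗ₜ[B] (1 : P) * y ⊗ₜ 1 = r x * (r y - y ⊗ₜ 1) + y ⊗ₜ 1 * (r x - x ⊗ₜ 1) by ring]
      exact J.add_mem (J.mul_mem_left _ hy) (J.mul_mem_left _ hx)
  have hker : RingHom.ker χ' ≤ RingHom.ker ρ := by
    rw [hk', ← Ideal.map_eq_bot_iff_le_ker, Ideal.map_pow, eq_bot_iff, ← hJ]
    refine Ideal.pow_right_mono ?_ _
    rw [← KaehlerDifferential.span_range_eq_ideal, Ideal.map_span, Ideal.span_le]
    rintro _ ⟨_, ⟨x, rfl⟩, rfl⟩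
    show ρ ((1 : B') ⊗ₜ x - x ⊗ₜ 1) ∈ J
    rw [map_sub, hρ, hρ, map_one, mul_one, show ((1 : B') ⊗ₜ[B] (1 : P)) = 1 from rfl, one_mul]
    exact hgen x
  -- the map back
  let θ : B ⊗[A] B →+* B' ⊗[A'] B' :=
    (Algebra.TensorProduct.lift
      (((Algebra.TensorProduct.includeLeft (R := A') (S := A') : B' →ₐ[A'] B' ⊗[A'] B').restrictScalars A).comp
        (IsScalarTower.toAlgHom A B B'))
      (((Algebra.TensorProduct.includeRight : B' →ₐ[A'] B' ⊗[A'] B').restrictScalars A).comp
        (IsScalarTower.toAlgHom A B B'))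
      (fun _ _ => Commute.all _ _)).toRingHom
  have hθ : ∀ a b, θ (a ⊗ₜ b) = algebraMap B B' a ⊗ₜ algebraMap B B' b := fun a b => by
    refine (Algebra.TensorProduct.lift_tmul _ _ _ a b).trans ?_
    show algebraMap B B' a ⊗ₜ[A'] (1 : B') * (1 : B') ⊗ₜ algebraMap B B' b = _
    rw [Algebra.TensorProduct.tmul_mul_tmul, mul_one, one_mul]
  have hθk : RingHom.ker χ ≤ RingHom.ker (χ'.comp θ) := by
    rw [hk, ← RingHom.comap_ker, ← Ideal.map_le_iff_le_comap, hk', Ideal.map_pow]
    refine Ideal.pow_right_mono ?_ _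
    rw [← KaehlerDifferential.span_range_eq_ideal, Ideal.map_span, Ideal.span_le]
    rintro _ ⟨_, ⟨x, rfl⟩, rfl⟩
    show θ ((1 : B) ⊗ₜ x - x ⊗ₜ 1) ∈ KaehlerDifferential.ideal A' B'
    rw [map_sub, hθ, hθ, map_one]
    exact KaehlerDifferential.one_smul_sub_smul_one_mem_ideal A' (algebraMap B B' x)
  let l : P →+* P' := RingHom.liftOfSurjective χ hs ⟨χ'.comp θ, hθk⟩
  have hl : ∀ z, l (χ z) = χ' (θ z) := fun z =>
    RingHom.liftOfRightInverse_comp_apply χ _ _ ⟨χ'.comp θ, hθk⟩ z
  letI : Algebra B P' := ((χ'.comp Algebra.TensorProduct.includeLeftRingHom).comp (algebraMap B B')).toAlgebra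
  let left : B' →ₐ[B] P' := { χ'.comp Algebra.TensorProduct.includeLeftRingHom with commutes' := fun b => rfl }
  let right : P →ₐ[B] P' :=
    { l with
      commutes' := fun b => by
        show l (χ (b ⊗ₜ 1)) = χ' (algebraMap B B' b ⊗ₜ 1)
        rw [hl, hθ, map_one] }
  let Λ : B' ⊗[B] P →ₐ[B] P' := Algebra.TensorProduct.lift left right (fun _ _ => Commute.all _ _)
  have hΛ : ∀ x p, Λ (x ⊗ₜ p) = χ' (x ⊗ₜ 1) * l p := fun x p => Algebra.TensorProduct.lift_tmul left right _ x p
  let ρ' : P' →+* B' ⊗[B] P := RingHom.liftOfSurjective χ' hs' ⟨ρ, hker⟩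
  have hρ' : ∀ z, ρ' (χ' z) = ρ z := fun z => RingHom.liftOfRightInverse_comp_apply χ' _ _ ⟨ρ, hker⟩ z
  refine ⟨(Λ : B' ⊗[B] P →+ P'), Function.bijective_iff_has_inverse.2 ⟨ρ', fun z => ?_, fun y => ?_⟩, fun x a b => ?_⟩
  · show ρ' (Λ z) = z
    induction z using TensorProduct.induction_on with
    | zero => rw [map_zero, map_zero]
    | add z w hz hw => rw [map_add, map_add, hz, hw]
    | tmul x p =>
      rw [hΛ, map_mul, hρ', hρ, map_one, mul_one]
      obtain ⟨w, rfl⟩ := hs p
      have e : ρ' (l (χ w)) = (1 : B') ⊗ₜ χ w := by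
        rw [hl, hρ']
        clear hΛ
        induction w using TensorProduct.induction_on with
        | zero => rw [map_zero, map_zero, map_zero, TensorProduct.tmul_zero]
        | add z w hz hw => rw [map_add, map_add, map_add, TensorProduct.tmul_add, hz, hw]
        | tmul a b =>
          rw [hθ, hρ, hrb, show algebraMap B B' a ⊗ₜ[B] (1 : P) = (1 : B') ⊗ₜ χ (a ⊗ₜ 1) from
            ((Algebra.TensorProduct.includeLeft (R := B) (S := B) : B' →ₐ[B] B' ⊗[B] P).commutes a).trans
              (iR.commutes a).symm, Algebra.TensorProduct.tmul_mul_tmul, one_mul, ← map_mul,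
            Algebra.TensorProduct.tmul_mul_tmul, mul_one, one_mul]
      rw [e, Algebra.TensorProduct.tmul_mul_tmul, mul_one, one_mul]
  · show Λ (ρ' y) = y
    obtain ⟨w, rfl⟩ := hs' y
    rw [hρ']
    have hr : ∀ x, Λ (r x) = χ' ((1 : B') ⊗ₜ x) := fun x => by
      induction x using pushout_induction A A' B B' with
      | ha a =>
        rw [hra, hΛ, map_one, mul_one]
        exact congrArg χ' (((Algebra.TensorProduct.includeLeft (R := A') (S := A') : B' →ₐ[A'] B' ⊗[A'] B').commutes a).trans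
          ((Algebra.TensorProduct.includeRight : B' →ₐ[A'] B' ⊗[A'] B').commutes a).symm)
      | hb b =>
        rw [hrb, hΛ, show ((1 : B') ⊗ₜ[A'] (1 : B')) = 1 from rfl, map_one, one_mul, hl, hθ, map_one]
      | hadd x y hx hy => rw [map_add, map_add, hx, hy, TensorProduct.tmul_add, map_add]
      | hmul x y hx hy =>
        rw [map_mul, map_mul, hx, hy, ← map_mul, Algebra.TensorProduct.tmul_mul_tmul, one_mul]
    induction w using TensorProduct.induction_on with
    | zero => rw [map_zero, map_zero, map_zero]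
    | add z w hz hw => rw [map_add, map_add, map_add, hz, hw]
    | tmul x b =>
      rw [hρ, map_mul, hr, hΛ, map_one, mul_one, ← map_mul, Algebra.TensorProduct.tmul_mul_tmul, mul_one, one_mul]
  · show Λ (x ⊗ₜ χ (a ⊗ₜ b)) = _
    rw [hΛ, hl, hθ, ← map_mul, Algebra.TensorProduct.tmul_mul_tmul, one_mul]

end Groth.Agent.PP12
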